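import Groth.Agent.KPE7.Univ
import Groth.Agent.ConsPropLib.FibreLocFree
import Groth.Agent.QCoh.Pullback
import Groth.Agent.QCoh.RpushAbGod

/-!
# Transport of the properties of `P^n` to a projective bundle
-/

set_option autoImplicit false
set_option linter.style.haveILetI false
set_option linter.unusedSectionVars false
set_option maxHeartbeats 400000
set_option backward.isDefEq.respectTransparency false
universe u
open CategoryTheory CategoryTheory.Limits AlgebraicGeometry TopologicalSpace Opposite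
attribute [local instance] HasDerivedCategory.standard

noncomputable section

namespace Groth.Agent.KPE7

open Groth.Agent
open scoped Groth.Agent.H23.PicMul

variable {X Y P T : Scheme.{u}}

/-- Cohomology is unchanged by an isomorphism of schemes. -/
theorem subsingleton_HH_pullback_iso (h : X ⟶ Y) [IsIso h] (M : Y.Modules) (q : ℕ)
    (hs : Subsingleton (Coh.HH Y M (q + 1))) :
    Subsingleton (Coh.HH X ((Scheme.Modules.pullback h).obj M) (q + 1)) := by
  refine QCoh.subsingleton_HH_of_iso ((Scheme.Modules.restrictFunctorIsoPullback h).app M) _ ?_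
  refine QCoh.subsingleton_HH_restrict h M q ?_
  rw [Scheme.Hom.opensRange_of_isIso]
  exact ProjGen7.subsingleton_HU_top' _ _ hs

/-- A map is an epimorphism if it is so locally. -/
theorem epi_of_restrict_cover {M N : X.Modules} (φ : M ⟶ N)
    (h : ∀ x : X, ∃ U : X.Opens, x ∈ U ∧ Epi ((Scheme.Modules.restrictFunctor U.ι).map φ)) : Epi φ := by
  refine Preadditive.epi_of_isZero_cokernel φ ?_
  haveI : IsIso (0 : cokernel φ ⟶ cokernel φ) := by
    refine RGLib.YBlow.isIso_of_restrict_cover _ fun x => ?_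
    obtain ⟨U, hx, hU⟩ := h x
    refine ⟨U, hx, ?_⟩
    haveI := hU
    haveI : (Scheme.Modules.restrictFunctor U.ι).PreservesZeroMorphisms := inferInstance
    haveI : PreservesColimitsOfSize.{0, 0} (Scheme.Modules.restrictFunctor U.ι) :=
      (Scheme.Modules.restrictAdjunction U.ι).leftAdjoint_preservesColimits
    have hz : IsZero ((Scheme.Modules.restrictFunctor U.ι).obj (cokernel φ)) :=
      (isZero_cokernel_of_epi _).of_iso (PreservesCokernel.iso (Scheme.Modules.restrictFunctor U.ι) φ)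
    exact ⟨⟨0, hz.eq_of_src _ _, hz.eq_of_src _ _⟩⟩
  refine (IsZero.iff_id_eq_zero _).2 ?_
  rw [← IsIso.hom_inv_id (0 : cokernel φ ⟶ cokernel φ), zero_comp]

theorem isIso_restrict_unit_of_iso (h : X ⟶ Y) [IsIso h] (N : Y.Modules) :
    IsIso ((Scheme.Modules.restrictAdjunction h).unit.app N) := by
  refine Scheme.Modules.Hom.isIso_iff_isIso_app.mpr fun W => ?_
  have e : h ''ᵁ (h ⁻¹ᵁ W) = W := by
    rw [Scheme.Hom.image_preimage_eq_opensRange_inf, Scheme.Hom.opensRange_of_isIso, top_inf_eq]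
  rw [Scheme.Modules.restrictAdjunction_unit_app_app,
    show homOfLE (h.image_preimage_le _) = eqToHom e from Subsingleton.elim _ _]
  exact Functor.map_isIso N.presheaf _

/-- A trivialisation of `(π, O)` over an affine open. -/
structure Chart (π : P ⟶ T) (n : ℕ) (O : ℤ → P.Modules) where
  U : T.Opens
  hU : IsAffineOpen U
  Φ : KRR.PY n (U : Scheme.{u}) ≅ ((π ⁻¹ᵁ U : P.Opens) : Scheme.{u})
  comm : Φ.hom ≫ (π ∣_ U) = KRR.pr n (U : Scheme.{u})
  twist : ∀ d, Nonempty ((Scheme.Modules.pullback (Φ.hom ≫ (π ⁻¹ᵁ U).ι)).obj (O d) ≅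
    Twist.twistOver n (U : Scheme.{u}) d)

namespace Chart

variable {π : P ⟶ T} {n : ℕ} {O : ℤ → P.Modules} (C : Chart π n O)

/-- `P^n_U` as an open of the bundle. -/
abbrev J : KRR.PY n (C.U : Scheme.{u}) ⟶ P := C.Φ.hom ≫ (π ⁻¹ᵁ C.U).ι

theorem comm' : C.Φ.inv ≫ KRR.pr n (C.U : Scheme.{u}) = π ∣_ C.U := by rw [← C.comm, Iso.inv_hom_id_assoc]

theorem proper_pr : IsProper (KRR.pr n (C.U : Scheme.{u})) := by
  haveI : IsProper (CohB1.ProjSpace.toSpec n (ULift.{u} ℤ)) := PnCoh.Chow.isProper_toSpec n _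
  exact MorphismProperty.pullback_snd _ _ inferInstance

/-- `(π_*M)|_U ≅ pr_*(M|_{P^n_U})`. -/
theorem nonempty_push (M : P.Modules) :
    Nonempty (((Scheme.Modules.pushforward π).obj M).restrict C.U.ι ≅
      (Scheme.Modules.pushforward (KRR.pr n (C.U : Scheme.{u}))).obj ((Scheme.Modules.pullback C.J).obj M)) := by
  let ι := (π ⁻¹ᵁ C.U).ι
  haveI := isIso_restrict_unit_of_iso C.Φ.hom (M.restrict ι)
  let a : (Scheme.Modules.restrictFunctor C.Φ.hom).obj (M.restrict ι) ≅ (Scheme.Modules.pullback C.J).obj M :=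
    (Scheme.Modules.restrictFunctorIsoPullback C.Φ.hom).app _ ≪≫
      (Scheme.Modules.pullback C.Φ.hom).mapIso ((Scheme.Modules.restrictFunctorIsoPullback ι).app M) ≪≫
      (Scheme.Modules.pullbackComp C.Φ.hom ι).app M
  exact ⟨asIso ((H23.PullPush.pushRestrict π C.U).app M) ≪≫
    (Scheme.Modules.pushforward (π ∣_ C.U)).mapIso
      (asIso ((Scheme.Modules.restrictAdjunction C.Φ.hom).unit.app (M.restrict ι)) ≪≫
        (Scheme.Modules.pushforward C.Φ.hom).mapIso a) ≪≫
    (Scheme.Modules.pushforwardComp C.Φ.hom (π ∣_ C.U)).app _ ≪≫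
    (Scheme.Modules.pushforwardCongr C.comm).app _⟩

theorem HH_of_van (M : P.Modules) (hM : Coh.IsQCoh M) (q : ℕ)
    (h : Van (KRR.pr n (C.U : Scheme.{u})) (q + 1) ((Scheme.Modules.pullback C.J).obj M)) :
    Subsingleton (Coh.HH _ (M.restrict (π ⁻¹ᵁ C.U).ι) (q + 1)) := by
  haveI : IsAffine (C.U : Scheme.{u}) := C.hU
  haveI := C.proper_pr
  let ι := (π ⁻¹ᵁ C.U).ι
  obtain ⟨a⟩ := QCoh.nonempty_HH_equiv_sections (KRR.pr n (C.U : Scheme.{u}))
    (QCoh.isQCoh_pullback C.J hM) (q + 1)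
  haveI : Subsingleton ↑(((Coh.RpushAb (KRR.pr n (C.U : Scheme.{u})) (q + 1)).obj
      (Coh.toAb ((Scheme.Modules.pullback C.J).obj M))).obj.obj (op ⊤)) := AddCommGrpCat.subsingleton_of_isZero
    ((sheafToPresheaf _ _ ⋙ (evaluation _ _).obj (op (⊤ : (C.U : Scheme.{u}).Opens))).map_isZero h)
  have h1 : Subsingleton (Coh.HH _ ((Scheme.Modules.pullback C.J).obj M) (q + 1)) := a.toEquiv.subsingleton
  refine QCoh.subsingleton_HH_of_iso ((Scheme.Modules.pullbackComp C.Φ.inv C.J).app M ≪≫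
    (Scheme.Modules.pullbackCongr (show C.Φ.inv ≫ C.J = ι by simp [J, ι])).app M ≪≫
    ((Scheme.Modules.restrictFunctorIsoPullback ι).app M).symm) _ ?_
  exact subsingleton_HH_pullback_iso C.Φ.inv _ q h1

theorem van_pr_of_van [IsProper π] (M : P.Modules) (hM : Coh.IsQCoh M) (q : ℕ) (h : Van π (q + 1) M) :
    Van (KRR.pr n (C.U : Scheme.{u})) (q + 1) ((Scheme.Modules.pullback C.J).obj M) := by
  haveI : IsAffine (C.U : Scheme.{u}) := C.hU
  haveI := C.proper_pr
  haveI : HasInjectiveResolutions P.Modules := KFlatLib.hasInjectiveResolutions_modules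
  haveI : HasInjectiveResolutions (KRR.PY n (C.U : Scheme.{u})).Modules := KFlatLib.hasInjectiveResolutions_modules
  have h1 : Subsingleton (Coh.HH _ (M.restrict (π ⁻¹ᵁ C.U).ι) (q + 1)) := by
    obtain ⟨e⟩ := QCoh.nonempty_RpushAb_iso π M q
    obtain ⟨e'⟩ := QCoh.nonempty_Rpush_iso π M q
    haveI : (QCoh.toAbFunctor T).Faithful := inferInstanceAs (SheafOfModules.toSheaf T.ringCatSheaf).Faithful
    have h0 : IsZero ((QCoh.toAbFunctor T).obj ((Coh.Rpush π (q + 1)).obj M)) :=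
      h.of_iso ((QCoh.toAbFunctor T).mapIso e' ≪≫ e.symm)
    obtain ⟨a⟩ := QCoh.nonempty_sections_HH (f := π) hM C.hU (q + 1)
    haveI : Subsingleton Γ((Coh.Rpush π (q + 1)).obj M, C.U) := AddCommGrpCat.subsingleton_of_isZero
      ((sheafToPresheaf _ _ ⋙ (evaluation _ _).obj (op C.U)).map_isZero h0)
    exact a.toEquiv.symm.subsingleton
  have h2 := QCoh.subsingleton_HH_of_iso ((Scheme.Modules.pullback C.Φ.hom).mapIso
      ((Scheme.Modules.restrictFunctorIsoPullback (π ⁻¹ᵁ C.U).ι).app M) ≪≫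
    (Scheme.Modules.pullbackComp C.Φ.hom (π ⁻¹ᵁ C.U).ι).app M) _ (subsingleton_HH_pullback_iso C.Φ.hom _ q h1)
  obtain ⟨a⟩ := QCoh.nonempty_HH_equiv_sections (KRR.pr n (C.U : Scheme.{u}))
    (QCoh.isQCoh_pullback C.J hM) (q + 1)
  obtain ⟨e⟩ := QCoh.nonempty_RpushAb_iso (KRR.pr n (C.U : Scheme.{u})) ((Scheme.Modules.pullback C.J).obj M) q
  obtain ⟨e'⟩ := QCoh.nonempty_Rpush_iso (KRR.pr n (C.U : Scheme.{u})) ((Scheme.Modules.pullback C.J).obj M) q
  refine IsZero.of_iso ((QCoh.toAbFunctor _).map_isZero ?_) (e ≪≫ (QCoh.toAbFunctor _).mapIso e'.symm)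
  refine QCoh.isZero_of_cover (QCoh.isQCoh_Rpush _ (QCoh.isQCoh_pullback C.J hM) (q + 1))
    (fun _ : PUnit.{u + 1} => (⊤ : (C.U : Scheme.{u}).Opens)) (fun _ => isAffineOpen_top _)
    (fun _ => ⟨PUnit.unit, trivial⟩) fun _ => ?_
  have b := ((sheafToPresheaf _ _ ⋙ (evaluation _ _).obj (op (⊤ : (C.U : Scheme.{u}).Opens))).mapIso
    (e ≪≫ (QCoh.toAbFunctor _).mapIso e'.symm)).addCommGroupIsoToAddEquiv
  exact (b.symm.trans a.symm).toEquiv.subsingleton

end Chart

section Cover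

variable {π : P ⟶ T} {n : ℕ} {O : ℤ → P.Modules} {K : Type*} (C : K → Chart π n O)
  (hC : ∀ x : T, ∃ k, x ∈ (C k).U)
include hC

theorem proper_of_charts : IsProper π := by
  refine IsZariskiLocalAtTarget.of_iSup_eq_top (P := @IsProper) (fun k => (C k).U)
    (top_le_iff.1 fun x _ => Opens.mem_iSup.2 (hC x)) fun k => ?_
  haveI := (C k).proper_pr
  rw [← (C k).comm']
  infer_instance

theorem van_of_charts (M : P.Modules) (hM : Coh.IsQCoh M) (q : ℕ)
    (h : ∀ k, Van (KRR.pr n ((C k).U : Scheme.{u})) (q + 1) ((Scheme.Modules.pullback (C k).J).obj M)) :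
    Van π (q + 1) M := by
  haveI := proper_of_charts C hC
  haveI : HasInjectiveResolutions P.Modules := KFlatLib.hasInjectiveResolutions_modules
  obtain ⟨e⟩ := QCoh.nonempty_RpushAb_iso π M q
  obtain ⟨e'⟩ := QCoh.nonempty_Rpush_iso π M q
  refine IsZero.of_iso ((QCoh.toAbFunctor T).map_isZero ?_) (e ≪≫ (QCoh.toAbFunctor T).mapIso e'.symm)
  refine QCoh.isZero_of_cover (QCoh.isQCoh_Rpush π hM (q + 1)) (fun k => (C k).U) (fun k => (C k).hU) hC fun k => ?_
  obtain ⟨a⟩ := QCoh.nonempty_sections_HH (f := π) hM (C k).hU (q + 1)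
  haveI := (C k).HH_of_van M hM q (h k)
  exact a.toEquiv.subsingleton

theorem van_zero_of_charts (M : P.Modules)
    (h : ∀ k, Van (KRR.pr n ((C k).U : Scheme.{u})) 0 ((Scheme.Modules.pullback (C k).J).obj M)) : Van π 0 M := by
  refine (van_zero_iff π M).2 ((IsZero.iff_id_eq_zero _).2 ?_)
  haveI : IsIso (0 : (Scheme.Modules.pushforward π).obj M ⟶ (Scheme.Modules.pushforward π).obj M) := by
    refine RGLib.YBlow.isIso_of_restrict_cover _ fun x => ?_
    obtain ⟨k, hk⟩ := hC x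
    refine ⟨(C k).U, hk, ?_⟩
    obtain ⟨e⟩ := (C k).nonempty_push M
    have hz := ((van_zero_iff _ _).1 (h k)).of_iso e
    exact ⟨⟨0, hz.eq_of_src _ _, hz.eq_of_src _ _⟩⟩
  rw [← IsIso.hom_inv_id (0 : (Scheme.Modules.pushforward π).obj M ⟶ (Scheme.Modules.pushforward π).obj M), zero_comp]

theorem isIso_unit_of_charts (G : T.Modules) (hG : FlatMod.IsFinLocFree G) :
    IsIso ((Scheme.Modules.pullbackPushforwardAdjunction π).unit.app G) := by
  refine RGLib.YBlow.isIso_of_restrict_cover _ fun x => ?_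
  obtain ⟨k, hk⟩ := hC x
  let p := KRR.pr n ((C k).U : Scheme.{u})
  have hO : FlatMod.IsFinLocFree (Coh.structureModule ((C k).U : Scheme.{u})) := ExtPow7.Lam.flf_O
  haveI := isIso_unit (n := n) hO
  have hp : ∀ V : (((C k).U : Scheme.{u})).Opens, Function.Bijective (p.app V) := fun V => by
    let φ := p.toRingCatSheafHom
    haveI : IsIso (SheafOfModules.pullbackObjUnitToUnit φ) := inferInstance
    let e : (Scheme.Modules.pullback p).obj (Coh.structureModule _) ⟶ Coh.structureModule _ :=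
      SheafOfModules.pullbackObjUnitToUnit φ
    haveI : IsIso e := inferInstanceAs (IsIso (SheafOfModules.pullbackObjUnitToUnit φ))
    let η : Coh.structureModule ((C k).U : Scheme.{u}) ⟶ _ :=
      (Scheme.Modules.pullbackPushforwardAdjunction p).unit.app (Coh.structureModule _)
    have he : η ≫ (Scheme.Modules.pushforward p).map e = SheafOfModules.unitToPushforwardObjUnit φ :=
      (Adjunction.homEquiv_unit (Scheme.Modules.pullbackPushforwardAdjunction p) _ _ e).symm.trans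
        (SheafOfModules.pullbackPushforwardAdjunction_homEquiv_pullbackObjUnitToUnit φ)
    have hi : IsIso (η ≫ (Scheme.Modules.pushforward p).map e) := inferInstance
    rw [he] at hi
    have hb := (ConcreteCategory.isIso_iff_bijective _).1 ((Scheme.Modules.Hom.isIso_iff_isIso_app.mp hi) V)
    exact hb
  have hf : ∀ V : (((C k).U : Scheme.{u})).Opens, Function.Bijective ((π ∣_ (C k).U).app V) := fun V => by
    have h2 : IsIso (((C k).Φ.hom ≫ (π ∣_ (C k).U)).app V) := by
      rw [(C k).comm]; exact (ConcreteCategory.isIso_iff_bijective _).2 (hp V)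
    rw [Scheme.Hom.comp_app] at h2
    exact (ConcreteCategory.isIso_iff_bijective _).1
      (IsIso.of_isIso_comp_right ((π ∣_ (C k).U).app V) ((C k).Φ.hom.app _))
  exact ⟨(C k).U, hk, H23.PullPush.isIso_restrict_unit π _ G (H23.PullPush.isIso_unit_of_isFinLocFree _ hf _
    (flf_iso ((Scheme.Modules.restrictFunctorIsoPullback (C k).U.ι).app G).symm
      (KFlatLib.isFinLocFree_pullback _ hG)))⟩

theorem epi_counit_of_charts (F : P.Modules)
    (h : ∀ k, Epi ((Scheme.Modules.pullbackPushforwardAdjunction (KRR.pr n ((C k).U : Scheme.{u}))).counit.app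
      ((Scheme.Modules.pullback (C k).J).obj F))) :
    Epi ((Scheme.Modules.pullbackPushforwardAdjunction π).counit.app F) := by
  refine epi_of_restrict_cover _ fun y => ?_
  obtain ⟨k, hk⟩ := hC (π y)
  let U := (C k).U
  let f := π ∣_ U
  let p := KRR.pr n (U : Scheme.{u})
  let i := (π ⁻¹ᵁ U).ι
  let Φ := (C k).Φ
  let N := F.restrict i
  let adj := Scheme.Modules.pullbackPushforwardAdjunction f
  haveI : Epi (adj.counit.app N) := by
    let M := (Scheme.Modules.pullback (C k).J).obj F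
    let ε := (Scheme.Modules.pullbackPushforwardAdjunction p).counit.app M
    haveI : Epi ε := h k
    haveI : Epi ((Scheme.Modules.pullback Φ.inv).map ε) :=
      haveI : PreservesColimitsOfSize.{0, 0} (Scheme.Modules.pullback Φ.inv) :=
        (Scheme.Modules.pullbackPushforwardAdjunction Φ.inv).leftAdjoint_preservesColimits
      inferInstance
    let s : (Scheme.Modules.pullback f).obj ((Scheme.Modules.pushforward p).obj M) ⟶ N :=
      (Scheme.Modules.pullbackCongr (C k).comm').inv.app _ ≫ (Scheme.Modules.pullbackComp Φ.inv p).inv.app _ ≫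
        (Scheme.Modules.pullback Φ.inv).map ε ≫ ((Scheme.Modules.pullbackComp Φ.inv (C k).J).app F ≪≫
          (Scheme.Modules.pullbackCongr (show Φ.inv ≫ (C k).J = i by simp [Chart.J, Φ, i, U])).app F ≪≫
          ((Scheme.Modules.restrictFunctorIsoPullback i).app F).symm).hom
    haveI : Epi s := inferInstance
    haveI : Epi ((Scheme.Modules.pullback f).map ((adj.homEquiv _ _) s) ≫ adj.counit.app N) := by
      have e := (adj.homEquiv _ _).symm_apply_apply s
      rw [Adjunction.homEquiv_counit] at e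
      exact (congrArg Epi e).mpr inferInstance
    exact epi_of_epi ((Scheme.Modules.pullback f).map ((adj.homEquiv _ _) s)) _
  refine ⟨π ⁻¹ᵁ U, hk, ?_⟩
  haveI : Epi ((H23.PullPush.pullRestrictIso π U).hom.app ((Scheme.Modules.pushforward π).obj F) ≫
      (Scheme.Modules.restrictFunctor i).map ((Scheme.Modules.pullbackPushforwardAdjunction π).counit.app F)) := by
    rw [H23.PullPush.restrict_counit_eq]
    exact epi_comp' inferInstance ‹Epi (adj.counit.app N)›
  exact epi_of_epi ((H23.PullPush.pullRestrictIso π U).hom.app _) _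

theorem flf_push_of_charts (F : P.Modules)
    (h : ∀ k, FlatMod.IsFinLocFree ((Scheme.Modules.pushforward (KRR.pr n ((C k).U : Scheme.{u}))).obj
      ((Scheme.Modules.pullback (C k).J).obj F))) :
    FlatMod.IsFinLocFree ((Scheme.Modules.pushforward π).obj F) := by
  refine ConsPropLib.isFinLocFree_of_cover (fun k => (C k).U.ι) (fun x => ?_) fun k => ?_
  · obtain ⟨k, hk⟩ := hC x
    exact ⟨k, by rw [Scheme.Opens.range_ι]; exact hk⟩
  · obtain ⟨e⟩ := (C k).nonempty_push F
    exact flf_iso e.symm (h k)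

end Cover

/-! ### Powers of an invertible module -/

theorem exists_pows {X : Scheme.{u}} {L : X.Modules} (hL : PicF.IsInvertible L) :
    ∃ O : ℤ → X.Modules, (∀ d, PicF.IsInvertible (O d)) ∧
      (∀ d, PicF.cl (O d) = ↑((H23.PicMul.isUnit_cl hL).unit ^ d)) ∧ ∀ d, O (d : ℕ) = CohB1.tensorPow L d := by
  obtain ⟨D, hD, e⟩ := H23.PicInv.exists_inverse hL
  let u := (H23.PicMul.isUnit_cl hL).unit
  have hu : PicF.cl D = ↑u⁻¹ := by
    refine u.eq_inv_of_mul_eq_one_right ?_
    rw [IsUnit.unit_spec]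
    exact (mul_comm _ _).trans (H23.PicMul.cl_eq_iff.2 e)
  refine ⟨fun d => match d with
    | Int.ofNat k => CohB1.tensorPow L k
    | Int.negSucc k => CohB1.tensorPow D (k + 1), ?_, ?_, fun d => rfl⟩
  · rintro (k | k)
    · exact H23.PicMul.isInvertible_tensorPow hL k
    · exact H23.PicMul.isInvertible_tensorPow hD (k + 1)
  · rintro (k | k)
    · show PicF.cl (CohB1.tensorPow L k) = _
      rw [H23.PicMul.cl_tensorPow]; simp
    · show PicF.cl (CohB1.tensorPow D (k + 1)) = _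
      rw [H23.PicMul.cl_tensorPow, hu, zpow_negSucc, ← inv_pow, Units.val_pow_eq_pow_val]

/-! ### Projective bundles satisfy the axioms -/

section Main

variable {π : P ⟶ T} {n : ℕ} {E : T.Modules} {O1 : P.Modules} {q : (Scheme.Modules.pullback π).obj E ⟶ O1}

theorem exists_Chart (hE : FlatMod.IsFinLocFreeOfRank (n + 1) E) (hPB : KRR.IsProjBundle π E O1 q)
    {O : ℤ → P.Modules} {u : (PicF.Cl P)ˣ} (hu : (↑u : PicF.Cl P) = PicF.cl O1)
    (hO : ∀ d, PicF.cl (O d) = ↑(u ^ d)) (x : T) : ∃ C : Chart π n O, x ∈ C.U := by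
  obtain ⟨V, hxV, ⟨e⟩⟩ := hE x
  obtain ⟨σ, hσ⟩ := H23.Frame.exists_frame e
  obtain ⟨_, ⟨U, hU, rfl⟩, hxU, hUV⟩ :=
    T.isBasis_affineOpens.exists_subset_of_mem_open (show x ∈ V from hxV) V.2
  obtain ⟨Φ, hΦ, ⟨a⟩⟩ := exists_chart hE hPB U _ (hσ.res hUV)
  let J := Φ.hom ≫ (π ⁻¹ᵁ U).ι
  let Q : ℤ → PicF.Cl (KRR.PY n (U : Scheme.{u})) := fun d => PicF.cl (Twist.twistOver n (U : Scheme.{u}) d)
  let v := Units.map (H23.PicMul.pullHom J) u
  have hv : (↑v : PicF.Cl (KRR.PY n (U : Scheme.{u}))) = Q 1 := by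
    show PicF.pullCl J ↑u = _
    rw [hu]
    exact H23.PicMul.cl_eq_iff.2 ⟨a⟩
  have hQ0 : Q 0 = 1 := by simp only [Q, CMReg7.cl_twistOver_zero]; try rfl
  have hQ : ∀ d : ℤ, (↑(v ^ d) : PicF.Cl (KRR.PY n (U : Scheme.{u}))) = Q d := by
    intro d
    induction d using Int.induction_on with
    | zero => simp [hQ0]
    | succ k ih => rw [zpow_add, zpow_one, Units.val_mul, ih, hv]; exact RegSheaf7.cl_twistOver_add _ _
    | pred k ih =>
      refine v.isUnit.mul_right_cancel ?_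
      rw [← Units.val_mul, ← zpow_add_one, sub_add_cancel, ih, hv]
      exact ((RegSheaf7.cl_twistOver_add (-(k : ℤ) - 1) 1).trans (by rw [sub_add_cancel])).symm
  refine ⟨⟨U, hU, Φ, hΦ, fun d => H23.PicMul.cl_eq_iff.1 ?_⟩, hxU⟩
  show PicF.pullCl J (PicF.cl (O d)) = Q d
  rw [← hQ, hO, ← map_zpow, Units.coe_map]
  rfl

/-- A projective bundle satisfies the axioms, for suitable powers of `O(1)`. -/
theorem exists_Bd [CompactSpace T] (hE : FlatMod.IsFinLocFreeOfRank (n + 1) E)
    (hPB : KRR.IsProjBundle π E O1 q) :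
    ∃ (O : ℤ → P.Modules) (q' : (Scheme.Modules.pullback π).obj E ⟶ O 1), Bd π n O E q' ∧
      ∀ d : ℕ, O (d : ℤ) = CohB1.tensorPow O1 d := by
  classical
  have hinv : PicF.IsInvertible O1 := fun x =>
    let ⟨V, hx, ⟨e⟩⟩ := hPB.invertible x
    ⟨V, hx, ⟨e ≪≫ coproductUniqueIso fun _ : Fin 1 => Coh.structureModule (V : Scheme.{u})⟩⟩
  obtain ⟨O, hOinv, hO, hOn⟩ := exists_pows hinv
  let u := (H23.PicMul.isUnit_cl hinv).unit
  have hu : (↑u : PicF.Cl P) = PicF.cl O1 := IsUnit.unit_spec _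
  have hadd : ∀ a b, PicF.cl (O a) * PicF.cl (O b) = PicF.cl (O (a + b)) := fun a b => by
    rw [hO, hO, hO, zpow_add, Units.val_mul]
  obtain ⟨o1⟩ : Nonempty (O1 ≅ O 1) := H23.PicMul.cl_eq_iff.1 (by rw [hO, zpow_one, hu])
  choose C hx using exists_Chart hE hPB hu hO
  obtain ⟨s, hs⟩ := CompactSpace.isCompact_univ (X := T) |>.elim_finite_subcover
    (fun x => ((C x).U : Set T)) (fun x => (C x).U.2) fun x _ => Set.mem_iUnion.2 ⟨x, hx x⟩
  let K := {x // x ∈ s}
  let D : K → Chart π n O := fun k => C k.1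
  have hD : ∀ x : T, ∃ k : K, x ∈ (D k).U := fun x => by
    obtain ⟨y, hys, hy⟩ := Set.mem_iUnion₂.1 (hs (Set.mem_univ x))
    exact ⟨⟨y, hys⟩, hy⟩
  haveI := proper_of_charts D hD
  haveI hc : ∀ k : K, CompactSpace ((D k).U : Scheme.{u}) := fun k => by
    haveI : IsAffine ((D k).U : Scheme.{u}) := (D k).hU
    infer_instance
  choose qU hB using fun k : K => bd_pr n ((D k).U : Scheme.{u})
  have hqc : ∀ {M : P.Modules} {d : ℤ}, FlatMod.IsFinLocFree M → Coh.IsQCoh (tw O d M) := fun hM =>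
    QCoh.isQCoh_of_isFinLocFree (ExtPow7.Lam.flf_tensor (flf_inv (hOinv _)) hM)
  -- pulling back twists
  have htw : ∀ (k : K) (d : ℤ) (M : P.Modules), Nonempty ((Scheme.Modules.pullback (D k).J).obj (tw O d M) ≅
      tw (fun d => Twist.twistOver n ((D k).U : Scheme.{u}) d) d ((Scheme.Modules.pullback (D k).J).obj M)) := by
    intro k d M
    refine H23.PicMul.cl_eq_iff.1 ?_
    show PicF.cl _ = PicF.cl (CohB1.tensorMod _ _)
    rw [H23.PicMul.cl_tensor, ← H23.PicMul.cl_eq_iff.2 ((D k).twist d)]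
    exact H23.PicMul.cl_eq_iff.2 (H23.PicMul.pull (D k).J (O d) M)
  have hpp : ∀ (k : K) (G : T.Modules), Nonempty ((Scheme.Modules.pullback (D k).J).obj ((Scheme.Modules.pullback π).obj G) ≅
      (Scheme.Modules.pullback (KRR.pr n ((D k).U : Scheme.{u}))).obj ((Scheme.Modules.pullback (D k).U.ι).obj G)) := by
    intro k G
    have h : (D k).J ≫ π = KRR.pr n ((D k).U : Scheme.{u}) ≫ (D k).U.ι := by
      rw [← (D k).comm, Category.assoc, Category.assoc, morphismRestrict_ι]
    exact ⟨(Scheme.Modules.pullbackComp _ _).app G ≪≫ (Scheme.Modules.pullbackCongr h).app G ≪≫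
      ((Scheme.Modules.pullbackComp _ _).app G).symm⟩
  have hvanG : ∀ (k : K) (G : T.Modules) (d : ℤ), Nonempty ((Scheme.Modules.pullback (D k).J).obj
      (tw O d ((Scheme.Modules.pullback π).obj G)) ≅ tw (fun d => Twist.twistOver n ((D k).U : Scheme.{u}) d) d
        ((Scheme.Modules.pullback (KRR.pr n ((D k).U : Scheme.{u}))).obj ((Scheme.Modules.pullback (D k).U.ι).obj G))) :=
    fun k G d => by
      obtain ⟨a⟩ := htw k d ((Scheme.Modules.pullback π).obj G)
      obtain ⟨b⟩ := hpp k G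
      exact ⟨a ≪≫ ((DCoh.tensorBi (X := KRR.PY n ((D k).U : Scheme.{u}))).obj _).mapIso b⟩
  have hreg : ∀ {F : P.Modules}, FlatMod.IsFinLocFree F → Reg π O F → ∀ k : K,
      Reg (KRR.pr n ((D k).U : Scheme.{u})) (fun d => Twist.twistOver n ((D k).U : Scheme.{u}) d)
        ((Scheme.Modules.pullback (D k).J).obj F) := fun {F} hF hr k i hi => by
    obtain ⟨j, rfl⟩ := Nat.exists_eq_add_of_le' hi
    obtain ⟨e⟩ := htw k (-((j + 1 : ℕ) : ℤ)) F
    exact van_iso _ e ((D k).van_pr_of_van _ (hqc hF) j (hr (j + 1) (by omega)))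
  refine ⟨O, q ≫ o1.hom, ⟨hOinv, hadd, hE, (haveI := hPB.epi; inferInstance), ?_, ?_, ?_,
    fun G hG => isIso_unit_of_charts D hD G hG, ?_, ?_, ?_⟩, hOn⟩
  · intro G hG d hd j
    refine van_of_charts D hD _ (hqc (KFlatLib.isFinLocFree_pullback π hG)) j fun k => ?_
    obtain ⟨e⟩ := hvanG k G d
    exact van_iso _ e.symm ((hB k).van _ (KFlatLib.isFinLocFree_pullback _ hG) d hd j)
  · intro M hM j hj
    exact van_of_charts D hD M hM j fun k => (hB k).above _ (QCoh.isQCoh_pullback _ hM) j hj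
  · intro G hG d hd hd'
    refine van_zero_of_charts D hD _ fun k => ?_
    obtain ⟨e⟩ := hvanG k G d
    exact van_iso _ e.symm ((hB k).low _ (KFlatLib.isFinLocFree_pullback _ hG) d hd hd')
  · intro F hF hr
    exact epi_counit_of_charts D hD F fun k => (hB k).gen _ (KFlatLib.isFinLocFree_pullback _ hF) (hreg hF hr k)
  · intro F hF hr
    exact flf_push_of_charts D hD F fun k => (hB k).pushFlf _ (KFlatLib.isFinLocFree_pullback _ hF) (hreg hF hr k)
  · intro F hF
    choose m₀ hm₀ using fun k : K => (hB k).serre _ (KFlatLib.isFinLocFree_pullback (D k).J hF)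
    obtain ⟨m₁, hm₁⟩ := (Set.finite_range m₀).bddAbove
    refine ⟨m₁, fun m hm i hi => ?_⟩
    obtain ⟨j, rfl⟩ := Nat.exists_eq_add_of_le' hi
    refine van_of_charts D hD _ (hqc (ExtPow7.Lam.flf_tensor (flf_inv (hOinv _)) hF)) j fun k => ?_
    obtain ⟨a⟩ := htw k (-((j + 1 : ℕ) : ℤ)) (tw O m F)
    obtain ⟨b⟩ := htw k m F
    exact van_iso _ (a ≪≫ ((DCoh.tensorBi (X := KRR.PY n ((D k).U : Scheme.{u}))).obj _).mapIso b).symm
      (hm₀ k m ((hm₁ ⟨k, rfl⟩).trans hm) (j + 1) (by omega))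

end Main

end Groth.Agent.KPE7
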