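import Groth.Agent.KPE7.Transfer
import Groth.Agent.SymX.VeryAmpleTensor
import Groth.Agent.SymX.UPGlobal
import Groth.Agent.RelTildeX.Invertible
import Groth.Agent.GrpSchLib.AntiAffine

/-!
# Existence of projective bundles, and their first properties
-/

set_option autoImplicit false
set_option linter.style.haveILetI false
set_option linter.unusedSectionVars false
set_option maxHeartbeats 400000
set_option backward.isDefEq.respectTransparency false
universe u
open CategoryTheory CategoryTheory.Limits AlgebraicGeometry TopologicalSpace Opposite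
attribute [local instance] HasDerivedCategory.standard

noncomputable section

namespace Groth.Agent.KPE7

open Groth.Agent
open scoped Groth.Agent.H23.PicMul
open Groth.Agent.ExtPow7.Lam (c)
attribute [local instance] ExtPow7.Lam.commRing

variable {X Y : Scheme.{u}}

theorem inv_of_rank_one {L : X.Modules} (hL : FlatMod.IsFinLocFreeOfRank 1 L) : PicF.IsInvertible L := fun x =>
  let ⟨V, hx, ⟨e⟩⟩ := hL x
  ⟨V, hx, ⟨e ≪≫ coproductUniqueIso fun _ : Fin 1 => Coh.structureModule (V : Scheme.{u})⟩⟩

/-- Projective bundles exist. -/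
theorem exists_projBundle (E : Y.Modules) (hE : Coh.IsQCoh E) :
    ∃ (P : Scheme.{u}) (π : P ⟶ Y) (O1 : P.Modules) (q : (Scheme.Modules.pullback π).obj E ⟶ O1),
      KRR.IsProjBundle π E O1 q := by
  obtain ⟨A⟩ := SymX.nonempty_bundle hE
  exact ⟨A.P, A.p, A.O1, ((Scheme.Modules.pullbackPushforwardAdjunction A.p).homEquiv E A.O1).symm A.φ,
    rank_one_inv (RelTildeX.isInvertible_twist A.C.isGenDegOne A.isRelTwist),
    SymX.epi_taut A.C A.isRelProj A.isRelTwist A.φ A.isTaut,
    fun T g L hL s hs => SymX.existsUnique_to_projBundle A.C hE A.isRelTwist A.isRelProj A.isTaut g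
      (inv_of_rank_one hL) s hs⟩

/-- `O_Y = f_*O_X` on all opens, when the unit at `O_Y` is an isomorphism. -/
theorem bijective_app_of_isIso_unit (f : X ⟶ Y)
    [IsIso ((Scheme.Modules.pullbackPushforwardAdjunction f).unit.app (Coh.structureModule Y))] (V : Y.Opens) :
    Function.Bijective (f.app V) := by
  let φ := f.toRingCatSheafHom
  let e : (Scheme.Modules.pullback f).obj (Coh.structureModule _) ⟶ Coh.structureModule _ :=
    SheafOfModules.pullbackObjUnitToUnit φ
  haveI : IsIso e := inferInstanceAs (IsIso (SheafOfModules.pullbackObjUnitToUnit φ))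
  let η : Coh.structureModule Y ⟶ _ :=
    (Scheme.Modules.pullbackPushforwardAdjunction f).unit.app (Coh.structureModule _)
  have he : η ≫ (Scheme.Modules.pushforward f).map e = SheafOfModules.unitToPushforwardObjUnit φ :=
    (Adjunction.homEquiv_unit (Scheme.Modules.pullbackPushforwardAdjunction f) _ _ e).symm.trans
      (SheafOfModules.pullbackPushforwardAdjunction_homEquiv_pullbackObjUnitToUnit φ)
  have hi : IsIso (η ≫ (Scheme.Modules.pushforward f).map e) := inferInstance
  rw [he] at hi
  have hb := (ConcreteCategory.isIso_iff_bijective _).1 ((Scheme.Modules.Hom.isIso_iff_isIso_app.mp hi) V)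
  exact hb

theorem eq_zero_or_one_of_idem [ConnectedSpace ↥Y] {e : Γ(Y, ⊤)} (he : IsIdempotentElem e) : e = 0 ∨ e = 1 := by
  have hcov : Y.basicOpen e ⊔ Y.basicOpen (1 - e) = ⊤ := by
    refine eq_top_iff.2 fun x _ => ?_
    by_contra hx
    rw [Opens.mem_sup, not_or, Y.mem_basicOpen (U := ⊤) e x trivial, Y.mem_basicOpen (U := ⊤) (1 - e) x trivial] at hx
    have h := IsLocalRing.isUnit_or_isUnit_of_add_one (a := Y.presheaf.germ ⊤ x trivial e)
      (b := Y.presheaf.germ ⊤ x trivial (1 - e)) (by rw [← map_add, add_sub_cancel, map_one])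
    exact h.elim hx.1 hx.2
  have hdis : Y.basicOpen e ⊓ Y.basicOpen (1 - e) = ⊥ := by
    rw [← Y.basicOpen_mul, show e * (1 - e) = 0 by rw [mul_sub, mul_one, he.eq, sub_self], Y.basicOpen_zero]
  have key : ∀ a b : Y.Opens, a ⊔ b = ⊤ → a ⊓ b = ⊥ → a = ⊤ ∨ b = ⊤ := fun a b h1 h2 => by
    have hcl : IsClopen (a : Set Y) := by
      refine ⟨?_, a.2⟩
      have : (a : Set Y) = (b : Set Y)ᶜ := by
        refine Set.Subset.antisymm (fun x hxa hxb => ?_) (fun x hxb => ?_)
        · exact (h2 ▸ (show x ∈ a ⊓ b from ⟨hxa, hxb⟩) : x ∈ (⊥ : Y.Opens)).elim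
        · rcases Opens.mem_sup.1 (h1 ▸ (trivial : x ∈ (⊤ : Y.Opens)) : x ∈ a ⊔ b) with h | h
          · exact h
          · exact absurd h hxb
      rw [this]; exact b.2.isClosed_compl
    rcases isClopen_iff.1 hcl with h | h
    · have ha : a = ⊥ := Opens.ext h
      exact Or.inr (by rw [← h1, ha, bot_sup_eq])
    · exact Or.inl (Opens.ext h)
  have hu : ∀ z : Γ(Y, ⊤), IsIdempotentElem z → Y.basicOpen z = ⊤ → z = 1 := fun z hz hb => by
    have : IsUnit z := by
      exact Y.toRingedSpace.isUnit_of_isUnit_germ ⊤ z fun x hx => (Y.mem_basicOpen z x hx).1 (by rw [hb]; trivial)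
    exact this.mul_left_cancel (by rw [hz.eq, mul_one])
  rcases key _ _ hcov hdis with h | h
  · exact Or.inr (hu e he h)
  · exact Or.inl (sub_eq_self.1 (hu _ he.one_sub h))

section Bundle

variable {P T : Scheme.{u}} {π : P ⟶ T} {n : ℕ} {E : T.Modules} {O1 : P.Modules}
  {q : (Scheme.Modules.pullback π).obj E ⟶ O1}

theorem isProper_of_isProjBundle (hE : FlatMod.IsFinLocFreeOfRank (n + 1) E) (hPB : KRR.IsProjBundle π E O1 q) :
    IsProper π := by
  have hinv := inv_of_rank_one hPB.invertible
  obtain ⟨O, hOinv, hO, hOn⟩ := exists_pows hinv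
  choose C hx using exists_Chart hE hPB (u := (H23.PicMul.isUnit_cl hinv).unit) (IsUnit.unit_spec _) hO
  exact proper_of_charts C fun x => ⟨x, hx x⟩

theorem isNoetherian_of_isProjBundle [IsNoetherian T] (hE : FlatMod.IsFinLocFreeOfRank (n + 1) E)
    (hPB : KRR.IsProjBundle π E O1 q) : IsNoetherian P := by
  haveI := isProper_of_isProjBundle hE hPB
  haveI : IsLocallyNoetherian P := LocallyOfFiniteType.isLocallyNoetherian π
  haveI : CompactSpace P := QuasiCompact.compactSpace_of_compactSpace π
  exact { }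

theorem connectedSpace_of_isProjBundle [CompactSpace T] [ConnectedSpace ↥T]
    (hE : FlatMod.IsFinLocFreeOfRank (n + 1) E) (hPB : KRR.IsProjBundle π E O1 q) : ConnectedSpace ↥P := by
  obtain ⟨O, q', B, -⟩ := exists_Bd hE hPB
  haveI := B.unit _ ExtPow7.Lam.flf_O
  have hb := bijective_app_of_isIso_unit π ⊤
  haveI : Nontrivial Γ(T, ⊤) := by
    obtain ⟨x⟩ := (inferInstance : Nonempty T)
    exact (T.presheaf.germ ⊤ x trivial).hom.domain_nontrivial
  haveI : PreconnectedSpace ↥P := GrpSchLib.AntiAffine.preconnectedSpace_of_forall_idem fun e he => by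
    obtain ⟨a, rfl⟩ := hb.2 e
    have ha : IsIdempotentElem a := hb.1 ((map_mul (π.app ⊤).hom a a).trans he.eq)
    rcases eq_zero_or_one_of_idem ha with rfl | rfl
    · exact Or.inl (map_zero _)
    · exact Or.inr (map_one _)
  refine { toNonempty := ?_ }
  by_contra hne
  haveI : IsEmpty P := not_nonempty_iff.1 hne
  haveI : Subsingleton Γ(P, ⊤) := by
    rw [show (⊤ : P.Opens) = ⊥ from Subsingleton.elim _ _]; infer_instance
  exact zero_ne_one (hb.1 (Subsingleton.elim _ _) : (0 : Γ(T, ⊤)) = 1)

theorem injective_pullK [CompactSpace T] (hE : FlatMod.IsFinLocFreeOfRank (n + 1) E)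
    (hPB : KRR.IsProjBundle π E O1 q) : Function.Injective (pullK π) := by
  obtain ⟨O, q', B, -⟩ := exists_Bd hE hPB
  intro x y hxy
  have e : ∀ z, window π n O 0 (Pi.single 0 z) = pullK π z := fun z => by
    show ∑ i : Fin (n + 1), _ = _
    rw [Finset.sum_eq_single (0 : Fin (n + 1)) (fun j _ hj => by simp [Pi.single_eq_of_ne hj])
      (fun h => absurd (Finset.mem_univ _) h), Pi.single_eq_same]
    simp [B.c_zero]
  exact Pi.single_injective (0 : Fin (n + 1)) ((B.bijective_window 0).1 (by rw [e, e, hxy]))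

end Bundle

end Groth.Agent.KPE7
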