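import Groth.Agent.QCoh.LocFree
import Groth.Agent.QCoh.Extension
import Groth.Agent.QCoh.Support
import Groth.Agent.H23.PullPush
import Groth.Agent.PnCoh.Finite.SerreVanishing
import Mathlib.RingTheory.Flat.EquationalCriterion

/-!
# Finite locally free modules through their sections: kernels and finite sums, over any scheme
-/

set_option autoImplicit false
set_option linter.style.haveILetI false
set_option backward.isDefEq.respectTransparency false

universe u

open CategoryTheory CategoryTheory.Limits AlgebraicGeometry Opposite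
attribute [local instance] Abelian.hasFiniteBiproducts

namespace Groth.Agent.KPE7

open Groth.Agent

variable {X : Scheme.{u}}

/-- Sections on an open, linearly. -/
noncomputable def appL {M N : X.Modules} (φ : M ⟶ N) (U : X.Opens) : Γ(M, U) →ₗ[Γ(X, U)] Γ(N, U) where
  toFun := φ.app U
  map_add' := map_add _
  map_smul' := Scheme.Modules.Hom.app_smul _

theorem flf_of_sections {M : X.Modules} (hM : Coh.IsQCoh M)
    (h : ∀ U : X.affineOpens, Module.Finite Γ(X, U.1) Γ(M, U.1) ∧ Module.Projective Γ(X, U.1) Γ(M, U.1)) :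
    FlatMod.IsFinLocFree M := by
  refine QCoh.isFlat_and_isFP_iff.1 ⟨fun x => ?_, (QCoh.isFP_iff hM).2 fun U => ?_⟩
  · obtain ⟨_, ⟨U, hU, rfl⟩, hx, -⟩ := X.isBasis_affineOpens.exists_subset_of_mem_open (Set.mem_univ x) isOpen_univ
    haveI := (h ⟨U, hU⟩).2
    exact (QCoh.flat_sections_iff hM hU).1 inferInstance x hx
  · haveI := (h U).1
    haveI := (h U).2
    exact Module.finitePresentation_of_projective _ _

theorem sections_of_flf {M : X.Modules} (hM : FlatMod.IsFinLocFree M) (U : X.affineOpens) :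
    Module.Finite Γ(X, U.1) Γ(M, U.1) ∧ Module.Projective Γ(X, U.1) Γ(M, U.1) := by
  haveI := QCoh.finitePresentation_of_isFP (QCoh.isFP_of_isFinLocFree hM) U.2
  haveI : Module.Flat Γ(X, U.1) Γ(M, U.1) :=
    (QCoh.flat_sections_iff (QCoh.isQCoh_of_isFinLocFree hM) U.2).2 fun x _ =>
      (QCoh.isFlat_and_isFP_iff.2 hM).1 x
  exact ⟨inferInstance, Module.Flat.projective_of_finitePresentation⟩

theorem isQCoh_X₁ {S : ShortComplex X.Modules} (hS : S.ShortExact) (h₂ : Coh.IsQCoh S.X₂) (h₃ : Coh.IsQCoh S.X₃) :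
    Coh.IsQCoh S.X₁ :=
  (QCoh.isQCoh_iff_iso ((kernelIsKernel S.g).conePointUniqueUpToIso hS.fIsKernel)).1
    (QCoh.isQCoh_kernel h₂ h₃ S.g)

/-- The kernel of a surjection of finite locally free modules is finite locally free. -/
theorem flf_ker {S : ShortComplex X.Modules} (hS : S.ShortExact) (h₂ : FlatMod.IsFinLocFree S.X₂)
    (h₃ : FlatMod.IsFinLocFree S.X₃) : FlatMod.IsFinLocFree S.X₁ := by
  have hq₂ := QCoh.isQCoh_of_isFinLocFree h₂
  have hq₃ := QCoh.isQCoh_of_isFinLocFree h₃
  have hq₁ := isQCoh_X₁ hS hq₂ hq₃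
  refine flf_of_sections hq₁ fun U => ?_
  obtain ⟨hf₂, hp₂⟩ := sections_of_flf h₂ U
  obtain ⟨hf₃, hp₃⟩ := sections_of_flf h₃ U
  let f := appL S.f U.1
  let g := appL S.g U.1
  have hg : Function.Surjective g := QCoh.app_surjective_of_shortExact hS hq₁ U.2
  have hfi : Function.Injective f := QCoh.app_f_injective hS U.1
  obtain ⟨s, hs⟩ := Module.projective_lifting_property g LinearMap.id hg
  let r : Γ(S.X₂, U.1) →ₗ[Γ(X, U.1)] Γ(S.X₂, U.1) := LinearMap.id - s.comp g
  have hr : ∀ x, r x ∈ LinearMap.range f := fun x => by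
    have h0 : g (r x) = 0 := by
      show g (x - s (g x)) = 0
      rw [map_sub, show g (s (g x)) = g x from LinearMap.congr_fun hs (g x), sub_self]
    obtain ⟨a, ha⟩ := QCoh.exists_app_f_eq hS U.1 (r x) h0
    exact ⟨a, ha⟩
  let ρ : Γ(S.X₂, U.1) →ₗ[Γ(X, U.1)] Γ(S.X₁, U.1) :=
    (LinearEquiv.ofInjective f hfi).symm.toLinearMap.comp (r.codRestrict (LinearMap.range f) hr)
  have hρ : ρ.comp f = LinearMap.id := LinearMap.ext fun a => by
    refine hfi ?_
    have e : f (ρ (f a)) = r (f a) :=
      congrArg Subtype.val ((LinearEquiv.ofInjective f hfi).apply_symm_apply ⟨r (f a), hr _⟩)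
    have h0 : g (f a) = 0 := QCoh.app_g_f (S := S) U.1 a
    show f (ρ (f a)) = f a
    rw [e]
    show f a - s (g (f a)) = f a
    rw [h0, map_zero, sub_zero]
  exact ⟨Module.Finite.of_surjective ρ fun a => ⟨f a, LinearMap.congr_fun hρ a⟩,
    Module.Projective.of_split f ρ hρ⟩

theorem flf_biproduct {β : Type u} [Fintype β] (T : β → X.Modules) (h : ∀ b, FlatMod.IsFinLocFree (T b)) :
    FlatMod.IsFinLocFree (⨁ T) := by
  classical
  refine flf_of_sections (PnCoh.Finite.isQCoh_biproduct T fun b => QCoh.isQCoh_of_isFinLocFree (h b)) fun U => ?_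
  haveI := fun b => (sections_of_flf (h b) U).1
  haveI := fun b => (sections_of_flf (h b) U).2
  haveI : Module.Projective Γ(X, U.1) (∀ b, Γ(T b, U.1)) :=
    Module.Projective.of_equiv' DFinsupp.linearEquivFunOnFintype
  let i : Γ(⨁ T, U.1) →ₗ[Γ(X, U.1)] (∀ b, Γ(T b, U.1)) := LinearMap.pi fun b => appL (biproduct.π T b) U.1
  let s : (∀ b, Γ(T b, U.1)) →ₗ[Γ(X, U.1)] Γ(⨁ T, U.1) :=
    ∑ b, (appL (biproduct.ι T b) U.1).comp (LinearMap.proj b)
  have hs : s.comp i = LinearMap.id := LinearMap.ext fun x => by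
    show (∑ b, (appL (biproduct.ι T b) U.1).comp (LinearMap.proj b)) (i x) = x
    rw [LinearMap.sum_apply]
    have h2 : ∀ t : Finset β,
        ∑ b ∈ t, (biproduct.π T b ≫ biproduct.ι T b).app U.1 x =
          (∑ b ∈ t, biproduct.π T b ≫ biproduct.ι T b).app U.1 x := fun t => by
      induction t using Finset.induction with
      | empty => rw [Finset.sum_empty, Finset.sum_empty]; rfl
      | insert a t ha ih => rw [Finset.sum_insert ha, Finset.sum_insert ha, ih]; rfl
    refine (h2 Finset.univ).trans ?_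
    have htot : ∑ b, biproduct.π T b ≫ biproduct.ι T b = 𝟙 (⨁ T) := by
      refine biproduct.hom_ext' _ _ fun j => ?_
      rw [Preadditive.comp_sum, Finset.sum_eq_single j]
      · simp
      · intro b _ hb
        rw [← Category.assoc, biproduct.ι_π_ne T (Ne.symm hb), zero_comp]
      · simp
    rw [htot]
    rfl
  exact ⟨Module.Finite.of_surjective s fun x => ⟨i x, LinearMap.congr_fun hs x⟩,
    Module.Projective.of_split i s hs⟩

end Groth.Agent.KPE7
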