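import Groth.Agent.KPE7.Exists
import Groth.Agent.KRR7.PullModel
import Groth.Agent.ExtPow7.Rank
import Groth.Agent.Lambda.ExtFil
import Groth.Agent.Lambda.PolyExt

/-!
# The splitting principle for `K₀` of bundles
-/

set_option autoImplicit false
set_option linter.style.haveILetI false
set_option linter.unusedSectionVars false
set_option maxHeartbeats 400000
set_option backward.isDefEq.respectTransparency false
universe u v w
open CategoryTheory CategoryTheory.Limits AlgebraicGeometry
attribute [local instance] HasDerivedCategory.standard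

noncomputable section

namespace Groth.Agent.KPE7

open Groth.Agent
open scoped Groth.Agent.H23.PicMul
open Groth.Agent.ExtPow7.Lam (c)
attribute [local instance] ExtPow7.Lam.commRing ExtPow7.Lam.lambdaOps

/-- The positive structure on `K₀` of bundles of a connected scheme. -/
def pos (X : Scheme.{u}) [ConnectedSpace ↥X] : LambdaRing.PosStructure (SGA6.Kvb X) :=
  (ExtPow7.Lam.exists_posStructure X).choose

theorem isModel_pos (X : Scheme.{u}) [ConnectedSpace ↥X] :
    KRR.IsModel X (SGA6.Kvb X) (pos X) (AddMonoidHom.id _) :=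
  (ExtPow7.Lam.exists_posStructure X).choose_spec

theorem isPull_pullK {X Y : Scheme.{u}} (f : X ⟶ Y) :
    KRR.IsPull f (AddMonoidHom.id (SGA6.Kvb Y)) (AddMonoidHom.id (SGA6.Kvb X)) (pullK f).toAddMonoidHom :=
  fun _ hE => pullK_c f hE

theorem pullK_id (X : Scheme.{u}) (x : SGA6.Kvb X) : pullK (𝟙 X) x = x := by
  refine DFunLike.congr_fun (KZ.K0sub_hom_ext (KRR.vbP X) (f := (pullK (𝟙 X)).toAddMonoidHom)
    (g := AddMonoidHom.id _) fun N hN => ?_) x
  exact (pullK_c _ hN).trans (ExtPow7.Lam.c_iso ((Scheme.Modules.pullbackId X).app N)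
    (KFlatLib.isFinLocFree_pullback _ hN))

theorem pullK_comp {X Y Z : Scheme.{u}} (f : X ⟶ Y) (g : Y ⟶ Z) (z : SGA6.Kvb Z) :
    pullK (f ≫ g) z = pullK f (pullK g z) := by
  refine DFunLike.congr_fun (KZ.K0sub_hom_ext (KRR.vbP Z) (f := (pullK (f ≫ g)).toAddMonoidHom)
    (g := ((pullK f).comp (pullK g)).toAddMonoidHom) fun N hN => ?_) z
  show pullK (f ≫ g) (c N) = pullK f (pullK g (c N))
  have hgN := KFlatLib.isFinLocFree_pullback g hN
  rw [pullK_c _ hN, pullK_c g hN, pullK_c f hgN]
  exact (ExtPow7.Lam.c_iso ((Scheme.Modules.pullbackComp f g).app N) (KFlatLib.isFinLocFree_pullback f hgN)).symm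

/-- `f^K` is an extension when it is injective. -/
theorem isExtension_pullK {X Y : Scheme.{u}} [ConnectedSpace ↥X] [ConnectedSpace ↥Y] (f : X ⟶ Y)
    (h : Function.Injective (pullK f)) : LambdaRing.IsExtension (pos Y) (pos X) (pullK f) :=
  ⟨fun i x => KRR7.pull_lam (isModel_pos Y) (isModel_pos X) (isPull_pullK f) i x, h,
    fun x => KRR7.pull_aug (isModel_pos Y) (isModel_pos X) (isPull_pullK f) x,
    fun _ hx => KRR7.pull_mem_pos (isModel_pos Y) (isModel_pos X) (isPull_pullK f) hx⟩

/-! ### The splitting tower -/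

theorem rank_kernel {T P : Scheme.{u}} [ConnectedSpace ↥P] {π : P ⟶ T} {n : ℕ} {O : ℤ → P.Modules} {E : T.Modules}
    {q : (Scheme.Modules.pullback π).obj E ⟶ O 1} (B : Bd π n O E q) :
    FlatMod.IsFinLocFreeOfRank n (kernel q) := by
  obtain ⟨x⟩ := (inferInstance : Nonempty P)
  haveI := B.epi
  have h1 : ExtPow7.Lam.rk ((Scheme.Modules.pullback π).obj E) x =
      ExtPow7.Lam.rk (kernel q) x + ExtPow7.Lam.rk (O 1) x :=
    ExtPow7.Lam.rk_ses (KZ.kerSeq_shortExact q) B.flf_kerq (B.flfO 1) x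
  rw [ExtPow7.Lam.rk_of_rank (KRR7.isFinLocFreeOfRank_pullback π B.rankE) x,
    ExtPow7.Lam.rk_of_rank (rank_one_inv (B.inv 1)) x] at h1
  have h := ExtPow7.Lam.rank_of_rk B.flf_kerq x
  rwa [show ExtPow7.Lam.rk (kernel q) x = n by omega] at h

/-- Data of a splitting morphism, with a property of morphisms closed under composition. -/
theorem exists_tower (Q : ∀ {A B : Scheme.{u}}, (A ⟶ B) → Prop)
    (hid : ∀ (A : Scheme.{u}) [IsNoetherian A] [ConnectedSpace ↥A], Q (𝟙 A))
    (hcomp : ∀ {A B C : Scheme.{u}} (f : A ⟶ B) (g : B ⟶ C), Q f → Q g → Q (f ≫ g))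
    (hstep : ∀ {T P : Scheme.{u}} [IsNoetherian T] [ConnectedSpace ↥T] [IsNoetherian P] [ConnectedSpace ↥P]
      {π : P ⟶ T} {n : ℕ} {O : ℤ → P.Modules} {E : T.Modules} {q : (Scheme.Modules.pullback π).obj E ⟶ O 1},
      Bd π n O E q → Q π) :
    ∀ (m : ℕ) (X : Scheme.{u}) [IsNoetherian X] [ConnectedSpace ↥X] (E : X.Modules),
      FlatMod.IsFinLocFreeOfRank m E →
      ∃ (X' : Scheme.{u}) (_ : IsNoetherian X') (_ : ConnectedSpace ↥X') (f : X' ⟶ X),
        Q f ∧ Function.Injective (pullK f) ∧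
        ∃ L : Fin m → X'.Modules, (∀ j, FlatMod.IsFinLocFreeOfRank 1 (L j)) ∧ pullK f (c E) = ∑ j, c (L j) := by
  intro m
  induction m with
  | zero =>
    intro X _ _ E hE
    refine ⟨X, inferInstance, inferInstance, 𝟙 X, hid X, fun a b h => by rwa [pullK_id, pullK_id] at h,
      fun j => j.elim0, fun j => j.elim0, ?_⟩
    rw [pullK_id, Finset.univ_eq_empty, Finset.sum_empty]
    refine KZ.clSub_isZero _ ((IsZero.iff_id_eq_zero _).2 ?_)
    haveI : IsIso (0 : E ⟶ E) := by
      refine RGLib.YBlow.isIso_of_restrict_cover _ fun x => ?_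
      obtain ⟨U, hx, ⟨e⟩⟩ := hE x
      have hz : IsZero (FlatMod.freeMod (U : Scheme.{u}) 0) :=
        (IsZero.iff_id_eq_zero _).2 (Sigma.hom_ext _ _ fun i => i.elim0)
      exact ⟨U, hx, ⟨⟨0, (hz.of_iso e).eq_of_src _ _, (hz.of_iso e).eq_of_src _ _⟩⟩⟩
    rw [← IsIso.hom_inv_id (0 : E ⟶ E), zero_comp]
  | succ n ih =>
    intro X _ _ E hE
    obtain ⟨P, π, O1, q, hPB⟩ := exists_projBundle E (QCoh.isQCoh_of_isFinLocFree (KRR7.flf_of_rank hE))
    haveI := isNoetherian_of_isProjBundle hE hPB
    haveI := connectedSpace_of_isProjBundle hE hPB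
    obtain ⟨O, q', B, -⟩ := exists_Bd hE hPB
    obtain ⟨X', h1, h2, f, hQ, hinj, L, hL, hsum⟩ := ih P (kernel q') (rank_kernel B)
    refine ⟨X', h1, h2, f ≫ π, hcomp f π hQ (hstep B), fun a b h => ?_, Fin.snoc L ((Scheme.Modules.pullback f).obj (O 1)),
      fun j => ?_, ?_⟩
    · rw [pullK_comp, pullK_comp] at h
      exact injective_pullK hE hPB (hinj h)
    · refine Fin.lastCases ?_ (fun i => ?_) j
      · rw [Fin.snoc_last]
        exact KRR7.isFinLocFreeOfRank_pullback f (rank_one_inv (B.inv 1))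
      · rw [Fin.snoc_castSucc]
        exact hL i
    · haveI := B.epi
      have hses : pullK π (c E) = c (kernel q') + c (O 1) := by
        rw [pullK_c π B.flfE]
        exact KZ.clSub_ses (fun M : P.Modules => FlatMod.IsFinLocFree M) (KZ.kerSeq_shortExact q') B.flf_kerq
          (KFlatLib.isFinLocFree_pullback π B.flfE) (B.flfO 1)
      rw [pullK_comp, hses, map_add, hsum, pullK_c f (B.flfO 1), Fin.sum_univ_castSucc]
      simp only [Fin.snoc_castSucc, Fin.snoc_last]

/-! ### The splitting property -/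

theorem hasSplitting_model {X : Scheme.{u}} [IsNoetherian X] [ConnectedSpace ↥X]
    (K : Type (u + 1)) [CommRing K] [LambdaRing.LambdaOps K] (P : LambdaRing.PosStructure K)
    (φ : SGA6.Kvb X →+ K) (hK : KRR.IsModel X K P φ) : LambdaRing.HasSplitting K P := by
  refine ⟨{L | ∃ (Y : Scheme.{u}) (_ : IsNoetherian Y) (_ : ConnectedSpace ↥Y) (ψ : SGA6.Kvb Y →+ L.carrier),
    KRR.IsModel Y L.carrier L.posStr ψ}, ⟨X, inferInstance, inferInstance, φ, hK⟩, ?_⟩
  rintro L ⟨Y, _, _, ψ, hψ⟩ e he
  obtain ⟨n, E, hn, hE, rfl⟩ := (hψ.mem_pos_iff e).1 he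
  obtain ⟨X', h1, h2, f, -, hinj, M, hM, hsum⟩ := exists_tower (fun _ => True) (fun _ _ _ => trivial)
    (fun _ _ _ _ => trivial) (fun _ => trivial) n Y E hE
  let eψ := AddEquiv.ofBijective ψ hψ.bijective
  let g : L.carrier →+ SGA6.Kvb X' := (pullK f).toAddMonoidHom.comp eψ.symm.toAddMonoidHom
  have hg : KRR.IsPull f ψ (AddMonoidHom.id _) g := fun F hF => by
    show pullK f (eψ.symm (ψ _)) = _
    rw [show eψ.symm (ψ (KRR.cl Y F)) = KRR.cl Y F from eψ.symm_apply_apply _]
    exact pullK_c f hF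
  let G := KRR7.pullRingHom hψ (isModel_pos X') hg
  refine ⟨⟨SGA6.Kvb X', pos X'⟩, ⟨X', h1, h2, _, isModel_pos X'⟩, G,
    ⟨fun i x => KRR7.pull_lam hψ (isModel_pos X') hg i x, hinj.comp eψ.symm.injective,
      fun x => KRR7.pull_aug hψ (isModel_pos X') hg x, fun x hx => KRR7.pull_mem_pos hψ (isModel_pos X') hg hx⟩,
    Finset.univ.val.map fun j => c (M j), fun x hx => ?_, ?_⟩
  · obtain ⟨j, -, rfl⟩ := Multiset.mem_map.1 hx
    exact ⟨((isModel_pos X').mem_pos_iff _).2 ⟨1, M j, le_rfl, hM j, rfl⟩, (isModel_pos X').aug_cl 1 (M j) (hM j)⟩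
  · show ∑ j, c (M j) = g (ψ (KRR.cl Y E))
    rw [hg E (KRR7.flf_of_rank hE), ← hsum, pullK_c f (KRR7.flf_of_rank hE)]
    rfl

theorem hasSplitting_pos (X : Scheme.{u}) [IsNoetherian X] [ConnectedSpace ↥X] :
    LambdaRing.HasSplitting (SGA6.Kvb X) (pos X) :=
  hasSplitting_model _ _ _ (isModel_pos X)

/-! ### The γ-filtration downstairs -/

theorem mem_gammaFiltration_of_pullK {T P : Scheme.{u}} [IsNoetherian T] [ConnectedSpace ↥T] [IsNoetherian P]
    [ConnectedSpace ↥P] {π : P ⟶ T} {n : ℕ} {O : ℤ → P.Modules} {E : T.Modules}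
    {q : (Scheme.Modules.pullback π).obj E ⟶ O 1} (B : Bd π n O E q) {k : ℕ} {a : SGA6.Kvb T}
    (ha : pullK π a ∈ LambdaRing.gammaFiltration (pos P) k) : a ∈ LambdaRing.gammaFiltration (pos T) k := by
  classical
  let e : SGA6.Kvb T := c E
  have he : e ∈ (pos T).pos := ((isModel_pos T).mem_pos_iff _).2 ⟨n + 1, E, by omega, B.rankE, rfl⟩
  have haug : (pos T).aug e = n + 1 := by
    rw [show (pos T).aug e = ((n + 1 : ℕ) : ℤ) from (isModel_pos T).aug_cl (n + 1) E B.rankE]; simp
  have hN : ((pos T).aug e).toNat = n + 1 := by omega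
  let p := KRR.extPoly (pos T) e
  -- the relation
  have hrel : p.eval₂ (pullK π) (c (O 1)) = 0 := by
    have hpow : ∀ i : ℕ, c (O 1) ^ i = c (O (i : ℤ)) := by
      intro i
      induction i with
      | zero => rw [pow_zero, Nat.cast_zero, B.c_zero]
      | succ i ih => rw [pow_succ, ih, B.c_add, Nat.cast_succ]
    have h := congrArg (· * c (O ((n + 1 : ℕ) : ℤ))) B.koszul
    simp only [Finset.sum_mul, zero_mul] at h
    rw [← h]
    simp only [p, KRR.extPoly, Polynomial.eval₂_finsetSum, Polynomial.eval₂_mul, Polynomial.eval₂_C,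
      Polynomial.eval₂_pow, Polynomial.eval₂_X, hN]
    refine Finset.sum_congr rfl fun i hi => ?_
    have hi' := Finset.mem_range.1 hi
    rw [smul_mul_assoc, mul_assoc, B.c_add, hpow, map_mul, map_pow, map_neg, map_one, zsmul_eq_mul,
      Int.cast_pow, Int.cast_neg, Int.cast_one,
      show -(i : ℤ) + ((n + 1 : ℕ) : ℤ) = ((n + 1 - i : ℕ) : ℤ) by omega,
      show LambdaRing.LambdaOps.lam i e = B.lam i from ExtPow7.Lam.lam_c B.flfE (B.ext_spec i).1]
    ring
  let ψ : AdjoinRoot p →+* SGA6.Kvb P := AdjoinRoot.lift (pullK π) (c (O 1)) hrel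
  have hwin : ∀ x : Fin (n + 1) → SGA6.Kvb T,
      ψ (∑ i : Fin (n + 1), AdjoinRoot.of p (x i) * AdjoinRoot.root p ^ (i : ℕ)) = window π n O 0 x := by
    intro x
    show _ = ∑ i : Fin (n + 1), _
    rw [map_sum]
    refine Finset.sum_congr rfl fun i _ => ?_
    rw [map_mul, map_pow, AdjoinRoot.lift_of, AdjoinRoot.lift_root, zero_add]
    congr 1
    induction (i : ℕ) with
    | zero => rw [pow_zero, Nat.cast_zero, B.c_zero]
    | succ j ih => rw [pow_succ, ih, B.c_add, Nat.cast_succ]
  have hmon : p.Monic := Lambda.extPoly_monic e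
  have hdeg : p.natDegree ≤ n + 1 := by
    refine Polynomial.natDegree_sum_le_of_forall_le _ _ fun i hi => ?_
    exact (Polynomial.natDegree_C_mul_X_pow_le _ _).trans (by omega)
  have hform : ∀ z : AdjoinRoot p, ∃ x : Fin (n + 1) → SGA6.Kvb T,
      z = ∑ i : Fin (n + 1), AdjoinRoot.of p (x i) * AdjoinRoot.root p ^ (i : ℕ) := by
    intro z
    obtain ⟨g, rfl⟩ := AdjoinRoot.mk_surjective z
    refine ⟨fun i => (g %ₘ p).coeff i, ?_⟩
    have hd : (g %ₘ p).natDegree < n + 1 := by
      by_cases hp1 : p = 1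
      · rw [hp1, Polynomial.modByMonic_one, Polynomial.natDegree_zero]; omega
      · exact lt_of_lt_of_le (Polynomial.natDegree_modByMonic_lt g hmon hp1) hdeg
    rw [Fin.sum_univ_eq_sum_range (fun i => AdjoinRoot.of p ((g %ₘ p).coeff i) * AdjoinRoot.root p ^ i)]
    calc AdjoinRoot.mk p g = AdjoinRoot.mk p (g %ₘ p) := by
          rw [AdjoinRoot.mk_eq_mk]
          exact ⟨g /ₘ p, by rw [sub_eq_iff_eq_add, add_comm]; exact (Polynomial.modByMonic_add_div g p).symm⟩
      _ = _ := by
          conv_lhs => rw [(g %ₘ p).as_sum_range' (n + 1) hd]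
          simp [← Polynomial.C_mul_X_pow_eq_monomial]
  have hψ : Function.Bijective ψ := by
    refine ⟨(injective_iff_map_eq_zero ψ).2 fun z hz => ?_, fun y => ?_⟩
    · obtain ⟨x, rfl⟩ := hform z
      rw [hwin] at hz
      have h0 : x = 0 := (B.bijective_window 0).1 (hz.trans (map_zero (window π n O 0)).symm)
      simp [h0]
    · obtain ⟨x, rfl⟩ := (B.bijective_window 0).2 y
      exact ⟨_, hwin x⟩
  let σ := RingEquiv.ofBijective ψ hψ
  -- transport of structure
  letI inst : LambdaRing.LambdaOps (AdjoinRoot p) :=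
    { lam := fun i z => σ.symm (LambdaRing.LambdaOps.lam i (σ z))
      lam_zero := fun z => by rw [LambdaRing.LambdaOps.lam_zero, map_one]
      lam_one := fun z => by rw [LambdaRing.LambdaOps.lam_one, RingEquiv.symm_apply_apply]
      lam_add := fun k a b => by
        rw [map_add, LambdaRing.LambdaOps.lam_add, map_sum]
        simp only [map_mul] }
  have hlam : ∀ i z, σ (LambdaRing.LambdaOps.lam i z) = LambdaRing.LambdaOps.lam i (σ z) := fun i z =>
    σ.apply_symm_apply _
  let Pe : LambdaRing.PosStructure (AdjoinRoot p) :=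
    { aug := (pos P).aug.comp σ.toRingHom
      aug_surjective := (pos P).aug_surjective.comp σ.surjective
      pos := {z | σ z ∈ (pos P).pos}
      add_mem := fun a b ha hb => by simpa using (pos P).add_mem _ _ ha hb
      mul_mem := fun a b ha hb => by simpa using (pos P).mul_mem _ _ ha hb
      natCast_mem := fun m hm => by simpa using (pos P).natCast_mem m hm
      exists_sub := fun z => by
        obtain ⟨a, b, ha, hb, h⟩ := (pos P).exists_sub (σ z)
        exact ⟨σ.symm a, σ.symm b, by simpa using ha, by simpa using hb, σ.injective (by simpa using h)⟩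
      aug_pos := fun z hz => (pos P).aug_pos _ hz
      lam_eq_zero := fun z hz i hi => σ.injective (by rw [hlam, map_zero]; exact (pos P).lam_eq_zero _ hz i hi)
      isUnit_lam := fun z hz => by
        have h := ((pos P).isUnit_lam _ hz).map σ.symm
        exact h }
  have hσext : LambdaRing.IsExtension Pe (pos P) σ.toRingHom :=
    ⟨fun i z => hlam i z, σ.injective, fun _ => rfl, fun _ hz => hz⟩
  have hsplit : LambdaRing.HasSplitting (AdjoinRoot p) Pe := by
    obtain ⟨C, hC, hs⟩ := hasSplitting_pos P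
    refine ⟨insert ⟨AdjoinRoot p, Pe⟩ C, Set.mem_insert _ _, ?_⟩
    intro L hL x hx
    rcases hL with rfl | hL
    · obtain ⟨L', hL', f, hf, s, hs1, hs2⟩ := hs ⟨SGA6.Kvb P, pos P⟩ hC (σ x) hx
      exact ⟨L', Set.mem_insert_of_mem _ hL', f.comp σ.toRingHom, Lambda.isExtension_comp hσext hf, s, hs1, hs2⟩
    · obtain ⟨L', hL', r⟩ := hs L hL x hx
      exact ⟨L', Set.mem_insert_of_mem _ hL', r⟩
  have hπ := isExtension_pullK π (fun x y h => by
    have e' : ∀ z, window π n O 0 (Pi.single 0 z) = pullK π z := fun z => by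
      show ∑ i : Fin (n + 1), _ = _
      rw [Finset.sum_eq_single (0 : Fin (n + 1)) (fun j _ hj => by simp [Pi.single_eq_of_ne hj])
        (fun h => absurd (Finset.mem_univ _) h), Pi.single_eq_same]
      simp [B.c_zero]
    exact Pi.single_injective (0 : Fin (n + 1)) ((B.bijective_window 0).1 (by rw [e', e', h])))
  have hof : ∀ x, σ (AdjoinRoot.of p x) = pullK π x := fun x => AdjoinRoot.lift_of hrel
  have hext : LambdaRing.IsExtension (pos T) Pe (AdjoinRoot.of p) :=
    ⟨fun i x => σ.injective (by rw [hlam, hof, hof, hπ.isLambdaHom]),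
      fun x y h => hπ.injective (by rw [← hof, ← hof, h]),
      fun x => by
        show (pos P).aug (σ _) = _
        rw [hof, hπ.aug_comp],
      fun x hx => by
        show σ (AdjoinRoot.of p x) ∈ (pos P).pos
        rw [hof]; exact hπ.pos_subset x hx⟩
  have hline : Pe.IsLine (AdjoinRoot.root p) := by
    have h : σ (AdjoinRoot.root p) = c (O 1) := AdjoinRoot.lift_root hrel
    refine ⟨?_, ?_⟩
    · show σ (AdjoinRoot.root p) ∈ (pos P).pos
      rw [h]; exact ((isModel_pos P).mem_pos_iff _).2 ⟨1, O 1, le_rfl, rank_one_inv (B.inv 1), rfl⟩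
    · show (pos P).aug (σ _) = _
      rw [h]; exact (isModel_pos P).aug_cl 1 (O 1) (rank_one_inv (B.inv 1))
  -- the filtration
  have hmem : AdjoinRoot.of p a ∈ Lambda.extFilSup (pos T) e k := by
    rw [← Lambda.gammaFiltration_ext_eq haug he hext hline hsplit k]
    have hback : ∀ z, z ∈ LambdaRing.gammaFiltration (pos P) k → σ.symm z ∈ LambdaRing.gammaFiltration Pe k := by
      intro z hz
      rcases eq_or_ne k 0 with rfl | hk
      · simp [LambdaRing.gammaFiltration]
      rw [LambdaRing.gammaFiltration, if_neg hk] at hz ⊢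
      induction hz using AddSubgroup.closure_induction with
      | mem y hy =>
        obtain ⟨l, hl, hs, rfl⟩ := hy
        refine AddSubgroup.subset_closure ⟨l.map fun r => (r.1, σ.symm r.2), fun r hr => ?_, ?_, σ.injective ?_⟩
        · obtain ⟨r, hr', rfl⟩ := List.mem_map.1 hr
          show (pos P).aug (σ (σ.symm r.2)) = 0
          rw [σ.apply_symm_apply]; exact hl r hr'
        · simpa [List.map_map, Function.comp_def] using hs
        · rw [σ.apply_symm_apply, map_list_prod, List.map_map, List.map_map]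
          refine congrArg List.prod (List.map_congr_left fun r _ => ?_)
          have h := Lambda.map_gamma hσext.isLambdaHom r.1 (σ.symm r.2)
          simp only [RingEquiv.toRingHom_eq_coe, RingEquiv.coe_toRingHom, RingEquiv.apply_symm_apply] at h
          exact h.symm
      | zero => rw [map_zero]; exact zero_mem _
      | add y z _ _ hy hz => rw [map_add]; exact add_mem hy hz
      | neg y _ hy => rw [map_neg]; exact neg_mem hy
    have h := hback _ ha
    rwa [← hof, σ.symm_apply_apply] at h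
  -- compare coefficients
  have hcoeff : ∀ z ∈ Lambda.extFilSup (pos T) e k, ∃ x : Fin (n + 1) → SGA6.Kvb T,
      (∀ i : Fin (n + 1), x i ∈ LambdaRing.gammaFiltration (pos T) (k - (i : ℕ))) ∧
      z = ∑ i : Fin (n + 1), AdjoinRoot.of p (x i) * (AdjoinRoot.root p - 1) ^ (i : ℕ) := by
    intro z hz
    rw [Lambda.extFilSup] at hz
    induction hz using AddSubgroup.iSup_induction' with
    | hp i y hy =>
      by_cases hi : i ∈ Finset.range ((pos T).aug e).toNat
      · rw [iSup_pos hi] at hy
        obtain ⟨b, hb, rfl⟩ := hy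
        have hi' : i < n + 1 := by rw [← hN]; exact Finset.mem_range.1 hi
        refine ⟨Pi.single ⟨i, hi'⟩ b, fun j => ?_, ?_⟩
        · rcases eq_or_ne j ⟨i, hi'⟩ with rfl | hj
          · rw [Pi.single_eq_same]; exact hb
          · rw [Pi.single_eq_of_ne hj]; exact zero_mem _
        · rw [Finset.sum_eq_single (⟨i, hi'⟩ : Fin (n + 1)) (fun j _ hj => by simp [Pi.single_eq_of_ne hj])
            (fun h => absurd (Finset.mem_univ _) h), Pi.single_eq_same]
          rfl
      · rw [iSup_neg hi, AddSubgroup.mem_bot] at hy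
        exact ⟨0, fun _ => zero_mem _, by simp [hy]⟩
    | h1 => exact ⟨0, fun _ => zero_mem _, by simp⟩
    | hadd y z _ _ hy hz =>
      obtain ⟨x, hx, rfl⟩ := hy
      obtain ⟨x', hx', rfl⟩ := hz
      exact ⟨x + x', fun i => add_mem (hx i) (hx' i), by simp [add_mul, Finset.sum_add_distrib]⟩
  obtain ⟨x, hx, hax⟩ := hcoeff _ hmem
  -- the powers of `root - 1` are independent
  have hzero : ∀ i : Fin (n + 1), x i = Pi.single (M := fun _ => SGA6.Kvb T) 0 a i := by
    let y : Fin (n + 1) → SGA6.Kvb T := x - Pi.single 0 a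
    have hy : ∑ i : Fin (n + 1), AdjoinRoot.of p (y i) * (AdjoinRoot.root p - 1) ^ (i : ℕ) = 0 := by
      simp only [y, Pi.sub_apply, map_sub, sub_mul, Finset.sum_sub_distrib, ← hax]
      rw [Finset.sum_eq_single (0 : Fin (n + 1)) (fun j _ hj => by simp [Pi.single_eq_of_ne hj])
        (fun h => absurd (Finset.mem_univ _) h), Pi.single_eq_same]
      simp
    have key : ∀ j : ℕ, ∀ i : Fin (n + 1), n - (i : ℕ) = j → y i = 0 := by
      intro j
      induction j using Nat.strong_induction_on with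
      | _ j ih =>
        intro i hi
        let G : Polynomial (SGA6.Kvb T) :=
          ∑ l : Fin (n + 1), Polynomial.C (y l) * (Polynomial.X - 1) ^ (l : ℕ)
        have hG : AdjoinRoot.mk p G = 0 := by
          simp only [G, map_sum, map_mul, map_pow, map_sub, map_one, AdjoinRoot.mk_C, AdjoinRoot.mk_X]
          exact hy
        -- coefficients of low degree representatives vanish
        let z : Fin (n + 1) → SGA6.Kvb T := fun l => G.coeff l
        have hGdeg : G.natDegree < n + 1 := by
          refine Nat.lt_succ_of_le (Polynomial.natDegree_sum_le_of_forall_le _ _ fun l _ => ?_)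
          refine (Polynomial.natDegree_C_mul_le _ _).trans ?_
          refine (Polynomial.natDegree_pow_le).trans ?_
          have h1 : (Polynomial.X - 1 : Polynomial (SGA6.Kvb T)).natDegree ≤ 1 :=
            Polynomial.natDegree_sub_le_of_le Polynomial.natDegree_X_le (Polynomial.natDegree_one.le.trans zero_le_one)
          have := l.2
          nlinarith
        have hz0 : z = 0 := by
          refine (B.bijective_window 0).1 ?_
          rw [← hwin, map_zero]
          have e1 : ∑ l : Fin (n + 1), AdjoinRoot.of p (z l) * AdjoinRoot.root p ^ (l : ℕ) = AdjoinRoot.mk p G := by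
            rw [Fin.sum_univ_eq_sum_range (fun l => AdjoinRoot.of p (G.coeff l) * AdjoinRoot.root p ^ l)]
            conv_rhs => rw [G.as_sum_range' (n + 1) hGdeg]
            simp [← Polynomial.C_mul_X_pow_eq_monomial]
          rw [e1, hG, map_zero]
        have hci := congrFun hz0 i
        simp only [z, G, Polynomial.finsetSum_coeff, Pi.zero_apply] at hci
        rw [Finset.sum_eq_single i (fun l _ hl => ?_) (fun h => absurd (Finset.mem_univ _) h)] at hci
        · have hlead : ((Polynomial.X - 1 : Polynomial (SGA6.Kvb T)) ^ (i : ℕ)).coeff (i : ℕ) = 1 := by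
            have := Polynomial.coeff_pow_of_natDegree_le (n := 1)
              (p := (Polynomial.X - 1 : Polynomial (SGA6.Kvb T))) (m := (i : ℕ))
              ((Polynomial.natDegree_sub_le_of_le Polynomial.natDegree_X_le (Polynomial.natDegree_one.le.trans zero_le_one)).trans (max_self 1).le)
            simpa [Polynomial.coeff_one] using this
          rwa [Polynomial.coeff_C_mul, hlead, mul_one] at hci
        · rcases lt_or_gt_of_ne (fun h : (l : ℕ) = i => hl (Fin.ext h)) with hlt | hgt
          · rw [Polynomial.coeff_C_mul, Polynomial.coeff_eq_zero_of_natDegree_lt, mul_zero]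
            refine (Polynomial.natDegree_pow_le).trans_lt ?_
            have h1 : (Polynomial.X - 1 : Polynomial (SGA6.Kvb T)).natDegree ≤ 1 :=
              Polynomial.natDegree_sub_le_of_le Polynomial.natDegree_X_le (Polynomial.natDegree_one.le.trans zero_le_one)
            nlinarith
          · rw [ih (n - l) (by omega) l rfl, map_zero, zero_mul, Polynomial.coeff_zero]
    intro i
    exact sub_eq_zero.1 (key _ i rfl)
  have h0 := hx 0
  rw [hzero 0, Pi.single_eq_same] at h0
  simpa using h0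

/-- A morphism splitting a bundle which detects the γ-filtration. -/
theorem exists_splitting (X : Scheme.{u}) [IsNoetherian X] [ConnectedSpace ↥X] (m : ℕ) (E : X.Modules)
    (hE : FlatMod.IsFinLocFreeOfRank m E) :
    ∃ (X' : Scheme.{u}) (_ : IsNoetherian X') (_ : ConnectedSpace ↥X') (f : X' ⟶ X),
      Function.Injective (pullK f) ∧
      (∀ (k : ℕ) (a : SGA6.Kvb X) (P' : LambdaRing.PosStructure (SGA6.Kvb X')) (P : LambdaRing.PosStructure (SGA6.Kvb X)),
        KRR.IsModel X' (SGA6.Kvb X') P' (AddMonoidHom.id _) → KRR.IsModel X (SGA6.Kvb X) P (AddMonoidHom.id _) →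
        pullK f a ∈ LambdaRing.gammaFiltration P' k → a ∈ LambdaRing.gammaFiltration P k) ∧
      ∃ L : Fin m → X'.Modules, (∀ j, FlatMod.IsFinLocFreeOfRank 1 (L j)) ∧ pullK f (c E) = ∑ j, c (L j) := by
  let Q' : ∀ {A B : Scheme.{u}}, (A ⟶ B) → Prop := fun {A B} f =>
    ∃ (_ : IsNoetherian A) (_ : IsNoetherian B) (_ : ConnectedSpace ↥A) (_ : ConnectedSpace ↥B),
      ∀ (k : ℕ) (a : SGA6.Kvb B),
        pullK f a ∈ LambdaRing.gammaFiltration (pos A) k → a ∈ LambdaRing.gammaFiltration (pos B) k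
  obtain ⟨X', h1, h2, f, hQ, hinj, L, hL, hsum⟩ := exists_tower Q'
    (fun A _ _ => ⟨inferInstance, inferInstance, inferInstance, inferInstance, fun k a h => by rwa [pullK_id] at h⟩)
    (fun f g ⟨a1, b1, a2, b2, hf⟩ ⟨a3, b3, a4, b4, hg⟩ => ⟨a1, b3, a2, b4, fun k a h =>
      hg k a (hf k _ (by rwa [pullK_comp] at h))⟩)
    (fun B => ⟨inferInstance, inferInstance, inferInstance, inferInstance, fun k a h =>
      mem_gammaFiltration_of_pullK B h⟩) m X E hE
  obtain ⟨_, _, _, _, hf⟩ := hQ
  refine ⟨X', h1, h2, f, hinj, fun k a P' P hP' hP h => ?_, L, hL, hsum⟩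
  have hid : ∀ (Z : Scheme.{u}), KRR.IsPull (𝟙 Z) (AddMonoidHom.id (SGA6.Kvb Z)) (AddMonoidHom.id (SGA6.Kvb Z))
      (AddMonoidHom.id (SGA6.Kvb Z)) := fun Z F hF =>
    (ExtPow7.Lam.c_iso ((Scheme.Modules.pullbackId Z).app F) (KFlatLib.isFinLocFree_pullback _ hF)).symm
  have h' : pullK f a ∈ LambdaRing.gammaFiltration (pos X') k :=
    KRR7.pull_gammaFiltration hP' (isModel_pos X') (hid X') h
  exact KRR7.pull_gammaFiltration (isModel_pos X) hP (hid X) (hf k a h')

end Groth.Agent.KPE7
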