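import Groth.Agent.KPE7.Exists
import Groth.Agent.KPE7.Split
import Groth.Agent.Lambda.Theta

/-!
# `K₀` of bundles of a quasi-compact scheme is a special λ-ring
-/

set_option autoImplicit false
set_option linter.style.haveILetI false
set_option linter.unusedSectionVars false
set_option maxHeartbeats 400000
set_option backward.isDefEq.respectTransparency false
universe u v w
open CategoryTheory CategoryTheory.Limits AlgebraicGeometry TopologicalSpace LambdaRing MvPolynomial
attribute [local instance] HasDerivedCategory.standard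

noncomputable section

namespace Groth.Agent.KPE7

open Groth.Agent
open scoped Groth.Agent.H23.PicMul
open Groth.Agent.ExtPow7.Lam (c rk)
open scoped Groth.Agent.Lambda
attribute [local instance] ExtPow7.Lam.commRing ExtPow7.Lam.lambdaOps

variable {S X : Scheme.{u}}

/-- A ring map commuting with `λ` on generators commutes with `λ`. -/
theorem lamHom_of_gen {A : Type w} [CommRing A] [LambdaOps A] (ψ : SGA6.Kvb S →+* A)
    (h : ∀ (i : ℕ) (M L : S.Modules), FlatMod.IsFinLocFree M → FlatMod.IsFinLocFree L → ExtPow.IsExtPow i M L →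
      ψ (c L) = LambdaOps.lam i (ψ (c M))) (i : ℕ) (x : SGA6.Kvb S) :
    ψ (LambdaOps.lam i x) = LambdaOps.lam i (ψ x) := by
  let G : AddSubgroup (SGA6.Kvb S) :=
    { carrier := {p | PowerSeries.map ψ (lamSeries p) = lamSeries (ψ p)}
      zero_mem' := by simp
      add_mem' := fun {a b} ha hb => by
        simp only [Set.mem_ofPred_eq] at ha hb ⊢
        rw [Lambda.lamSeries_add, map_mul, map_add, Lambda.lamSeries_add, ha, hb]
      neg_mem' := fun {a} ha => by
        simp only [Set.mem_ofPred_eq] at ha ⊢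
        have h := congrArg (PowerSeries.map ψ) (Lambda.lamSeries_neg_mul_self a)
        rw [map_mul, map_one, ha] at h
        rw [map_neg]
        exact left_inv_eq_right_inv h ((mul_comm _ _).trans (Lambda.lamSeries_neg_mul_self _)) }
  have hG : (QuotientAddGroup.mk' G) = 0 := KZ.K0sub_hom_ext (KRR.vbP S) fun M hM => by
    refine (QuotientAddGroup.eq_zero_iff _).2 ?_
    show PowerSeries.map ψ (lamSeries (c M)) = lamSeries (ψ (c M))
    ext j
    obtain ⟨L, hL, hLf⟩ := ExtPow7.exists_isExtPow hM j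
    rw [PowerSeries.coeff_map]
    simp only [lamSeries, PowerSeries.coeff_mk]
    rw [show LambdaOps.lam j (c M) = c L from ExtPow7.Lam.lam_c hM hL]
    exact h j M L hM hLf hL
  have hx : x ∈ G := (QuotientAddGroup.eq_zero_iff x).1 (DFunLike.congr_fun hG x)
  have := congrArg (PowerSeries.coeff i) hx
  simpa [lamSeries, PowerSeries.coeff_map] using this

theorem pullK_lam (f : X ⟶ S) (i : ℕ) (x : SGA6.Kvb S) :
    pullK f (LambdaOps.lam i x) = LambdaOps.lam i (pullK f x) := by
  refine lamHom_of_gen (pullK f) (fun i M L hM hLf hL => ?_) i x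
  have hfM := KFlatLib.isFinLocFree_pullback f hM
  obtain ⟨L', hL', -⟩ := ExtPow7.exists_isExtPow hfM i
  rw [pullK_c f hLf, pullK_c f hM, show LambdaOps.lam i (c ((Scheme.Modules.pullback f).obj M)) = c L' from
    ExtPow7.Lam.lam_c hfM hL']
  exact ExtPow7.Lam.c_iso (ExtPow7.nonempty_iso_pullback_isExtPow f hM hL hL').some
    (KFlatLib.isFinLocFree_pullback f hLf)

theorem exists_eq_sub (x : SGA6.Kvb S) :
    ∃ M N : S.Modules, FlatMod.IsFinLocFree M ∧ FlatMod.IsFinLocFree N ∧ x = c M - c N := by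
  have hadd : ∀ {A B : S.Modules}, FlatMod.IsFinLocFree A → FlatMod.IsFinLocFree B → c (A ⊞ B) = c A + c B :=
    fun {A B} hA hB => KZ.clSub_ses (fun M : S.Modules => FlatMod.IsFinLocFree M)
      (ShortComplex.Splitting.ofHasBinaryBiproduct A B).shortExact hA (KFlatLib.isFinLocFree_biprod hA hB) hB
  let G : AddSubgroup (SGA6.Kvb S) :=
    { carrier := {x | ∃ M N : S.Modules, FlatMod.IsFinLocFree M ∧ FlatMod.IsFinLocFree N ∧ x = c M - c N}
      zero_mem' := ⟨_, _, ExtPow7.Lam.flf_O, ExtPow7.Lam.flf_O, (sub_self _).symm⟩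
      add_mem' := by
        rintro _ _ ⟨A, B, hA, hB, rfl⟩ ⟨A', B', hA', hB', rfl⟩
        refine ⟨A ⊞ A', B ⊞ B', KFlatLib.isFinLocFree_biprod hA hA', KFlatLib.isFinLocFree_biprod hB hB', ?_⟩
        rw [hadd hA hA', hadd hB hB']; abel
      neg_mem' := by
        rintro _ ⟨A, B, hA, hB, rfl⟩
        exact ⟨B, A, hB, hA, neg_sub _ _⟩ }
  have hG : (QuotientAddGroup.mk' G) = 0 := KZ.K0sub_hom_ext (KRR.vbP S) fun M hM => by
    refine (QuotientAddGroup.eq_zero_iff _).2 ?_
    refine ⟨M ⊞ Coh.structureModule S, Coh.structureModule S, KFlatLib.isFinLocFree_biprod hM ExtPow7.Lam.flf_O,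
      ExtPow7.Lam.flf_O, ?_⟩
    rw [hadd hM ExtPow7.Lam.flf_O, add_sub_cancel_right]
  exact (QuotientAddGroup.eq_zero_iff x).1 (DFunLike.congr_fun hG x)

/-! ### Modules of rank at most one -/

theorem exists_nhd_rank {M : S.Modules} (hM : FlatMod.IsFinLocFree M) (x : S) :
    ∃ U : S.Opens, x ∈ U ∧ ∀ y ∈ U, rk M y = rk M x := by
  obtain ⟨U, n, hx, ⟨e⟩⟩ := hM x
  obtain ⟨s, hs⟩ := H23.Frame.exists_frame e
  exact ⟨U, hx, fun y hy => by rw [ExtPow7.Lam.rk_of_frame hs hy, ExtPow7.Lam.rk_of_frame hs hx]⟩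

theorem rank_of_forall {M : S.Modules} (hM : FlatMod.IsFinLocFree M) {n : ℕ} (h : ∀ x, rk M x = n) :
    FlatMod.IsFinLocFreeOfRank n M := fun x => by
  obtain ⟨U, m, hx, ⟨e⟩⟩ := hM x
  obtain ⟨s, hs⟩ := H23.Frame.exists_frame e
  obtain rfl : n = m := (h x).symm.trans (ExtPow7.Lam.rk_of_frame hs hx)
  exact ⟨U, hx, ⟨e⟩⟩

theorem rk_pullback (f : X ⟶ S) {M : S.Modules} (hM : FlatMod.IsFinLocFree M) (x : X) :
    rk ((Scheme.Modules.pullback f).obj M) x = rk M (f x) := by
  choose U n hU e using hM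
  choose s hs using fun y => H23.Frame.exists_frame (e y).some
  rw [ExtPow7.Lam.rk_of_frame (hs (f x)) (hU (f x))]
  exact ExtPow7.Lam.rk_of_frame (ExtPow7.isFrame_pullElt (n := n) f hs hU x) (hU (f x))

/-- Classes of modules of rank at most one. -/
def Low (X : Scheme.{u}) : Set (SGA6.Kvb X) :=
  {a | ∃ M : X.Modules, FlatMod.IsFinLocFree M ∧ (∀ x, rk M x ≤ 1) ∧ c M = a}

theorem one_mem_low : (1 : SGA6.Kvb X) ∈ Low X :=
  ⟨_, ExtPow7.Lam.flf_O, fun x => (ExtPow7.Lam.rk_of_rank (rank_one_inv ExtPow7.Lam.isInvertible_O) x).le, rfl⟩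

theorem mul_mem_low {a b : SGA6.Kvb X} (ha : a ∈ Low X) (hb : b ∈ Low X) : a * b ∈ Low X := by
  obtain ⟨M, hM, h1, rfl⟩ := ha
  obtain ⟨N, hN, h2, rfl⟩ := hb
  refine ⟨_, ExtPow7.Lam.flf_tensor hM hN, fun x => ?_, c_tensor hM hN⟩
  rw [ExtPow7.Lam.rk_tensor hM hN]
  exact Nat.mul_le_mul (h1 x) (h2 x)

theorem pow_mem_low {a : SGA6.Kvb X} (ha : a ∈ Low X) : ∀ k : ℕ, a ^ k ∈ Low X
  | 0 => by rw [pow_zero]; exact one_mem_low
  | k + 1 => by rw [pow_succ]; exact mul_mem_low (pow_mem_low ha k) ha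

theorem lam_low {a : SGA6.Kvb X} (ha : a ∈ Low X) (i : ℕ) (hi : 2 ≤ i) : LambdaOps.lam i a = 0 := by
  obtain ⟨M, hM, h1, rfl⟩ := ha
  obtain ⟨L, hL, hLf⟩ := ExtPow7.exists_isExtPow hM i
  rw [show LambdaOps.lam i (c M) = c L from ExtPow7.Lam.lam_c hM hL]
  refine KZ.clSub_isZero _ ((IsZero.iff_id_eq_zero _).2 ?_)
  haveI : IsIso (0 : L ⟶ L) := by
    refine RGLib.YBlow.isIso_of_restrict_cover _ fun x => ?_
    obtain ⟨U, hx, hU⟩ := exists_nhd_rank hM x
    have hMU := KFlatLib.isFinLocFree_pullback U.ι hM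
    have hr : FlatMod.IsFinLocFreeOfRank (rk M x) ((Scheme.Modules.pullback U.ι).obj M) :=
      rank_of_forall hMU fun y => by rw [rk_pullback U.ι hM]; exact hU _ y.2
    obtain ⟨L', hL', -⟩ := ExtPow7.exists_isExtPow hMU i
    have h1x := h1 x
    have hz := ((ExtPow7.isZero_of_isExtPow_lt hr (by omega) hL').of_iso
      (ExtPow7.nonempty_iso_pullback_isExtPow U.ι hM hL hL').some).of_iso
      ((Scheme.Modules.restrictFunctorIsoPullback U.ι).app L)
    exact ⟨U, hx, ⟨⟨0, hz.eq_of_src _ _, hz.eq_of_src _ _⟩⟩⟩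
  rw [← IsIso.hom_inv_id (0 : L ⟶ L), zero_comp]

theorem pull_low (f : X ⟶ S) {a : SGA6.Kvb S} (ha : a ∈ Low S) : pullK f a ∈ Low X := by
  obtain ⟨M, hM, h1, rfl⟩ := ha
  exact ⟨_, KFlatLib.isFinLocFree_pullback f hM, fun x => by rw [rk_pullback f hM]; exact h1 _, (pullK_c f hM).symm⟩

/-- `f` splits `a`. -/
def Splits (f : X ⟶ S) (a : SGA6.Kvb S) : Prop := pullK f a ∈ AddSubgroup.closure (Low X)

theorem Splits.comp {Y : Scheme.{u}} {f : X ⟶ S} {g : Y ⟶ X} {a : SGA6.Kvb S} (h : Splits f a) :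
    Splits (g ≫ f) a := by
  show pullK (g ≫ f) a ∈ _
  rw [pullK_comp]
  have h' : pullK f a ∈ AddSubgroup.closure (Low X) := h
  generalize pullK f a = b at h'
  induction h' using AddSubgroup.closure_induction with
  | mem y hy => exact AddSubgroup.subset_closure (pull_low g hy)
  | zero => rw [map_zero]; exact zero_mem _
  | add _ _ _ _ h1 h2 => rw [map_add]; exact add_mem h1 h2
  | neg _ _ h1 => rw [map_neg]; exact neg_mem h1

theorem exists_split_rank : ∀ (n : ℕ) (S : Scheme.{u}) [CompactSpace S] (E : S.Modules),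
    FlatMod.IsFinLocFreeOfRank n E →
    ∃ (X : Scheme.{u}) (_ : CompactSpace X) (f : X ⟶ S), Function.Injective (pullK f) ∧ Splits f (c E) := by
  intro n
  induction n with
  | zero =>
    intro S _ E hE
    refine ⟨S, inferInstance, 𝟙 S, fun a b h => by rwa [pullK_id, pullK_id] at h, ?_⟩
    show pullK _ _ ∈ _
    rw [pullK_id]
    exact AddSubgroup.subset_closure ⟨E, KRR7.flf_of_rank hE,
      fun x => by rw [ExtPow7.Lam.rk_of_rank hE x]; omega, rfl⟩
  | succ n ih =>
    intro S _ E hE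
    obtain ⟨P, π, O1, q, hPB⟩ := exists_projBundle E (QCoh.isQCoh_of_isFinLocFree (KRR7.flf_of_rank hE))
    haveI := isProper_of_isProjBundle hE hPB
    haveI : CompactSpace P := QuasiCompact.compactSpace_of_compactSpace π
    obtain ⟨O, q', B, -⟩ := exists_Bd hE hPB
    haveI := B.epi
    have hker : FlatMod.IsFinLocFreeOfRank n (kernel q') := rank_of_forall B.flf_kerq fun x => by
      have h1 : rk ((Scheme.Modules.pullback π).obj E) x = rk (kernel q') x + rk (O 1) x :=
        ExtPow7.Lam.rk_ses (KZ.kerSeq_shortExact q') B.flf_kerq (B.flfO 1) x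
      rw [rk_pullback π B.flfE, ExtPow7.Lam.rk_of_rank hE,
        ExtPow7.Lam.rk_of_rank (rank_one_inv (B.inv 1))] at h1
      omega
    obtain ⟨X', hX', f, hinj, hs⟩ := ih P (kernel q') hker
    refine ⟨X', hX', f ≫ π, fun a b h => ?_, ?_⟩
    · rw [pullK_comp, pullK_comp] at h
      exact injective_pullK hE hPB (hinj h)
    · have hses : pullK π (c E) = c (kernel q') + c (O 1) := by
        rw [pullK_c π B.flfE]
        exact KZ.clSub_ses (fun M : P.Modules => FlatMod.IsFinLocFree M) (KZ.kerSeq_shortExact q') B.flf_kerq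
          (KFlatLib.isFinLocFree_pullback π B.flfE) (B.flfO 1)
      show pullK _ _ ∈ _
      rw [pullK_comp, hses, map_add]
      exact add_mem hs (AddSubgroup.subset_closure (pull_low f
        ⟨O 1, B.flfO 1, fun x => (ExtPow7.Lam.rk_of_rank (rank_one_inv (B.inv 1)) x).le, rfl⟩))

/-- The extension of `O` by zero from a clopen. -/
theorem exists_clopen_module (U : S.Opens) (hU : IsClosed (U : Set S)) :
    ∃ M : S.Modules, FlatMod.IsFinLocFree M ∧ ∀ x, (x ∈ U → rk M x = 1) ∧ (x ∉ U → rk M x = 0) := by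
  let M := (Scheme.Modules.pushforward U.ι).obj (Coh.structureModule (U : Scheme.{u}))
  let V : S.Opens := ⟨(U : Set S)ᶜ, hU.isOpen_compl⟩
  have hin : Nonempty (M.restrict U.ι ≅ FlatMod.freeMod (U : Scheme.{u}) 1) :=
    ⟨asIso ((Scheme.Modules.restrictAdjunction U.ι).counit.app _) ≪≫
      (coproductUniqueIso fun _ : Fin 1 => Coh.structureModule (U : Scheme.{u})).symm⟩
  have hout : Nonempty (M.restrict V.ι ≅ FlatMod.freeMod (V : Scheme.{u}) 0) := by
    have hz0 : IsZero (FlatMod.freeMod (V : Scheme.{u}) 0) :=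
      (IsZero.iff_id_eq_zero _).2 (Sigma.hom_ext _ _ fun i => i.elim0)
    have hz : IsZero (M.restrict V.ι) := by
      refine (IsZero.iff_id_eq_zero _).2 (Scheme.Modules.hom_ext _ _ fun W => AddCommGrpCat.hom_ext
        (AddMonoidHom.ext fun z => ?_))
      haveI : Subsingleton Γ(M.restrict V.ι, W) := by
        have e : U.ι ⁻¹ᵁ (V.ι ''ᵁ W) = ⊥ := by
          ext y
          refine ⟨fun hy => ?_, False.elim⟩
          obtain ⟨w, -, hw⟩ := hy
          have hyV : U.ι y ∈ V := hw ▸ w.2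
          exact hyV y.2
        show Subsingleton Γ(Coh.structureModule (U : Scheme.{u}), U.ι ⁻¹ᵁ (V.ι ''ᵁ W))
        haveI : Subsingleton Γ((U : Scheme.{u}), U.ι ⁻¹ᵁ (V.ι ''ᵁ W)) := by rw [e]; infer_instance
        exact Module.subsingleton Γ((U : Scheme.{u}), U.ι ⁻¹ᵁ (V.ι ''ᵁ W)) _
      exact Subsingleton.elim _ _
    exact ⟨hz.iso hz0⟩
  have hflf : FlatMod.IsFinLocFree M := fun x => by
    by_cases hx : x ∈ U
    · exact ⟨U, 1, hx, hin⟩
    · exact ⟨V, 0, hx, hout⟩
  refine ⟨M, hflf, fun x => ⟨fun hx => ?_, fun hx => ?_⟩⟩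
  · obtain ⟨s, hs⟩ := H23.Frame.exists_frame hin.some
    exact ExtPow7.Lam.rk_of_frame hs hx
  · obtain ⟨s, hs⟩ := H23.Frame.exists_frame hout.some
    exact ExtPow7.Lam.rk_of_frame hs (show x ∈ V from hx)

theorem exists_bound [CompactSpace S] {E : S.Modules} (hE : FlatMod.IsFinLocFree E) : ∃ N, ∀ x, rk E x ≤ N := by
  choose U hU hr using exists_nhd_rank hE
  obtain ⟨s, hs⟩ := CompactSpace.isCompact_univ (X := S) |>.elim_finite_subcover
    (fun x => (U x : Set S)) (fun x => (U x).2) fun x _ => Set.mem_iUnion.2 ⟨x, hU x⟩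
  refine ⟨s.sup fun x => rk E x, fun y => ?_⟩
  obtain ⟨x, hxs, hy⟩ := Set.mem_iUnion₂.1 (hs (Set.mem_univ y))
  rw [hr x y hy]
  exact Finset.le_sup (f := fun x => rk E x) hxs

theorem exists_split_one [CompactSpace S] {E : S.Modules} (hE : FlatMod.IsFinLocFree E) :
    ∃ (X : Scheme.{u}) (_ : CompactSpace X) (f : X ⟶ S), Function.Injective (pullK f) ∧ Splits f (c E) := by
  obtain ⟨N, hN⟩ := exists_bound hE
  suffices H : ∀ (d : ℕ) (E : S.Modules), FlatMod.IsFinLocFree E →
      (∀ x, rk E x ≤ N ∧ N ≤ rk E x + d) →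
      ∃ (X : Scheme.{u}) (_ : CompactSpace X) (f : X ⟶ S), Function.Injective (pullK f) ∧ Splits f (c E) from
    H N E hE fun x => ⟨hN x, Nat.le_add_left _ _⟩
  intro d
  induction d with
  | zero => exact fun E hE h => exists_split_rank N S E (rank_of_forall hE fun x => le_antisymm (h x).1 (h x).2)
  | succ d ih =>
    intro E hE h
    let U : S.Opens := ⟨{x | rk E x < N}, isOpen_iff_forall_mem_open.2 fun x hx => by
      obtain ⟨V, hV, hr⟩ := exists_nhd_rank hE x
      exact ⟨V, fun y hy => (hr y hy).trans_lt hx, V.2, hV⟩⟩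
    have hUc : IsClosed (U : Set S) := by
      refine isOpen_compl_iff.1 (isOpen_iff_forall_mem_open.2 fun x hx => ?_)
      obtain ⟨V, hV, hr⟩ := exists_nhd_rank hE x
      exact ⟨V, fun y hy hyU => hx (show rk E x < N from (hr y hy) ▸ hyU), V.2, hV⟩
    obtain ⟨M, hM, hrk⟩ := exists_clopen_module U hUc
    have hses := (ShortComplex.Splitting.ofHasBinaryBiproduct E M).shortExact
    have hEM := KFlatLib.isFinLocFree_biprod hE hM
    have hM1 : ∀ x, rk M x ≤ 1 := fun x => by
      by_cases hx : x ∈ U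
      · exact ((hrk x).1 hx).le
      · rw [(hrk x).2 hx]; omega
    obtain ⟨X', hX', f, hinj, hs⟩ := ih (E ⊞ M) hEM fun x => by
      have h1 : rk (E ⊞ M) x = rk E x + rk M x := ExtPow7.Lam.rk_ses hses hE hM x
      have h2 := h x
      by_cases hx : x ∈ U
      · have h3 : rk E x < N := hx
        rw [h1, (hrk x).1 hx]; omega
      · have h3 : ¬ rk E x < N := hx
        rw [h1, (hrk x).2 hx]; omega
    refine ⟨X', hX', f, hinj, ?_⟩
    have hc : c (E ⊞ M) = c E + c M := KZ.clSub_ses (fun M : S.Modules => FlatMod.IsFinLocFree M) hses hE hEM hM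
    show pullK f (c E) ∈ _
    rw [show c E = c (E ⊞ M) - c M by rw [hc, add_sub_cancel_right], map_sub]
    exact sub_mem hs (AddSubgroup.subset_closure (pull_low f ⟨M, hM, hM1, rfl⟩))

theorem exists_split_elems [CompactSpace S] : ∀ l : List (SGA6.Kvb S),
    ∃ (X : Scheme.{u}) (_ : CompactSpace X) (f : X ⟶ S), Function.Injective (pullK f) ∧ ∀ a ∈ l, Splits f a
  | [] => ⟨S, inferInstance, 𝟙 S, fun a b h => by rwa [pullK_id, pullK_id] at h, by simp⟩
  | a :: l => by
    obtain ⟨X₁, _, f₁, hf₁, h₁⟩ := exists_split_elems l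
    obtain ⟨M, N, hM, hN, ha⟩ := exists_eq_sub (pullK f₁ a)
    obtain ⟨X₂, _, f₂, hf₂, hs₂⟩ := exists_split_one hM
    obtain ⟨X₃, hX₃, f₃, hf₃, hs₃⟩ := exists_split_one (KFlatLib.isFinLocFree_pullback f₂ hN)
    refine ⟨X₃, hX₃, (f₃ ≫ f₂) ≫ f₁, fun x y h => ?_, fun b hb => ?_⟩
    · rw [pullK_comp, pullK_comp, pullK_comp, pullK_comp] at h
      exact hf₁ (hf₂ (hf₃ h))
    · rcases List.mem_cons.1 hb with rfl | hb
      · show pullK _ _ ∈ _
        rw [pullK_comp, ha, map_sub]
        refine sub_mem (hs₂.comp (g := f₃)) ?_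
        rw [pullK_comp, pullK_c f₂ hN]
        exact hs₃
      · exact (h₁ b hb).comp

/-! ### The line ring -/

/-- Index set of the modules of rank at most one. -/
abbrev LowIdx (X : Scheme.{u}) := {a : SGA6.Kvb X // a ∈ Low X}

/-- `ℤ[w] ⟶ K₀(X)`. -/
def lowHom (X : Scheme.{u}) : MvPolynomial (LowIdx X) ℤ →ₐ[ℤ] SGA6.Kvb X := aeval fun v => (v : SGA6.Kvb X) - 1

theorem lowHom_lineMon_mem (d : LowIdx X →₀ ℕ) : lowHom X (Lambda.lineMon d) ∈ Low X := by
  rw [Lambda.lineMon_eq, lowHom, map_finsuppProd, Finsupp.prod]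
  induction d.support using Finset.cons_induction with
  | empty => simpa using one_mem_low
  | cons a s ha ih =>
    rw [Finset.prod_cons]
    refine mul_mem_low ?_ ih
    rw [map_pow, map_add, map_one, aeval_X, add_sub_cancel]
    exact pow_mem_low a.2 _

theorem lowHom_lam (i : ℕ) (p : MvPolynomial (LowIdx X) ℤ) :
    lowHom X (LambdaOps.lam i p) = LambdaOps.lam i (lowHom X p) := by
  suffices h : ∀ p, PowerSeries.map (lowHom X).toRingHom (lamSeries p) = lamSeries (lowHom X p) by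
    have := congrArg (PowerSeries.coeff i) (h p)
    simpa [lamSeries, PowerSeries.coeff_map] using this
  let G : AddSubgroup (MvPolynomial (LowIdx X) ℤ) :=
    { carrier := {p | PowerSeries.map (lowHom X).toRingHom (lamSeries p) = lamSeries (lowHom X p)}
      zero_mem' := by simp
      add_mem' := fun {a b} ha hb => by
        simp only [Set.mem_ofPred_eq] at ha hb ⊢
        rw [Lambda.lamSeries_add, map_mul, map_add, Lambda.lamSeries_add, ha, hb]
      neg_mem' := fun {a} ha => by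
        simp only [Set.mem_ofPred_eq] at ha ⊢
        have h := congrArg (PowerSeries.map (lowHom X).toRingHom) (Lambda.lamSeries_neg_mul_self a)
        rw [map_mul, map_one, ha] at h
        rw [map_neg]
        exact left_inv_eq_right_inv h ((mul_comm _ _).trans (Lambda.lamSeries_neg_mul_self _)) }
  refine fun p => Lambda.line_induction (S := G) (fun d => ?_) p
  show PowerSeries.map (lowHom X).toRingHom (lamSeries (Lambda.lineMon d)) = lamSeries (lowHom X (Lambda.lineMon d))
  rw [Lambda.lamSeries_eq_lineSeries, Lambda.lineSeries_lineMon,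
    Lambda.lamSeries_of_lam_eq_zero (lam_low (lowHom_lineMon_mem d))]
  simp

theorem mem_range_lowHom {a : SGA6.Kvb X} (h : a ∈ AddSubgroup.closure (Low X)) : ∃ p, lowHom X p = a := by
  induction h using AddSubgroup.closure_induction with
  | mem y hy => exact ⟨1 + MvPolynomial.X ⟨y, hy⟩, by simp [lowHom]⟩
  | zero => exact ⟨0, map_zero _⟩
  | add _ _ _ _ h1 h2 =>
    obtain ⟨p, rfl⟩ := h1
    obtain ⟨q, rfl⟩ := h2
    exact ⟨p + q, map_add _ _ _⟩
  | neg _ _ h1 => obtain ⟨p, rfl⟩ := h1; exact ⟨-p, map_neg _ _⟩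

/-- `K₀` of bundles is special. -/
theorem isSpecial_Kvb [CompactSpace S] : IsSpecial (SGA6.Kvb S) := by
  refine ⟨fun n hn => lam_low one_mem_low n hn, fun n Q hQ x y => ?_, fun i j Q hQ x => ?_⟩
  · obtain ⟨X', _, f, hf, hsplit⟩ := exists_split_elems [x, y]
    obtain ⟨p, hp⟩ := mem_range_lowHom (hsplit x (by simp))
    obtain ⟨q, hq⟩ := mem_range_lowHom (hsplit y (by simp))
    apply hf
    rw [pullK_lam, map_mul, ← hp, ← hq, ← map_mul, ← lowHom_lam, Lambda.isSpecial_line.lam_mul n Q hQ p q,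
      show ∀ z, lowHom X' z = (lowHom X').toRingHom z from fun _ => rfl, Lambda.ringHom_aeval_int,
      Lambda.ringHom_aeval_int]
    congr 2
    funext k
    rcases k with k | k
    · simp only [Sum.elim_inl, AlgHom.toRingHom_eq_coe, RingHom.coe_coe, lowHom_lam, hp]
      exact (pullK_lam _ _ _).symm
    · simp only [Sum.elim_inr, AlgHom.toRingHom_eq_coe, RingHom.coe_coe, lowHom_lam, hq]
      exact (pullK_lam _ _ _).symm
  · obtain ⟨X', _, f, hf, hsplit⟩ := exists_split_elems [x]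
    obtain ⟨p, hp⟩ := mem_range_lowHom (hsplit x (by simp))
    apply hf
    rw [pullK_lam, pullK_lam, ← hp, ← lowHom_lam, ← lowHom_lam, Lambda.isSpecial_line.lam_lam i j Q hQ p,
      show ∀ z, lowHom X' z = (lowHom X').toRingHom z from fun _ => rfl, Lambda.ringHom_aeval_int,
      Lambda.ringHom_aeval_int]
    congr 2
    funext k
    simp only [AlgHom.toRingHom_eq_coe, RingHom.coe_coe, lowHom_lam, hp]
    exact (pullK_lam _ _ _).symm

end Groth.Agent.KPE7
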