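import Groth.Agent.RegSheaf7.Main
import Groth.Agent.QCoh.RpushProper
import Groth.Agent.KFlatLib.Scheme.RpushQCoh

/-!
# The long exact sequence of `R^i f_*`, in the form used for projective bundles
-/

set_option autoImplicit false
set_option linter.style.haveILetI false
universe u
open CategoryTheory CategoryTheory.Limits AlgebraicGeometry
attribute [local instance] HasDerivedCategory.standard

namespace Groth.Agent.KPE7

open Groth.Agent

variable {X Y : Scheme.{u}} (f : X ⟶ Y)

/-- `R^i f_* M` vanishes. -/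
abbrev Van (i : ℕ) (M : X.Modules) : Prop := IsZero ((Coh.RpushAb f i).obj (Coh.toAb M))

theorem van_iso {i : ℕ} {M N : X.Modules} (e : M ≅ N) (h : Van f i M) : Van f i N :=
  h.of_iso ((Coh.RpushAb f i).mapIso ((QCoh.toAbFunctor X).mapIso e.symm))

theorem van_zero_iff (M : X.Modules) :
    Van f 0 M ↔ IsZero ((Scheme.Modules.pushforward f).obj M) := by
  obtain ⟨e⟩ := QCoh.nonempty_RpushAb_zero_iso f M
  refine ⟨fun h => ?_, fun h => ?_⟩
  · haveI : (QCoh.toAbFunctor Y).Faithful := inferInstanceAs (SheafOfModules.toSheaf Y.ringCatSheaf).Faithful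
    have h0 : IsZero ((QCoh.toAbFunctor Y).obj ((Scheme.Modules.pushforward f).obj M)) := h.of_iso e.symm
    rw [IsZero.iff_id_eq_zero] at h0 ⊢
    exact (QCoh.toAbFunctor Y).map_injective (by rw [CategoryTheory.Functor.map_id, h0, Functor.map_zero])
  · exact ((QCoh.toAbFunctor Y).map_isZero h).of_iso e

variable {S : ShortComplex X.Modules}

theorem van_X₂ (hS : S.ShortExact) {i : ℕ} (h₁ : Van f i S.X₁) (h₃ : Van f i S.X₃) : Van f i S.X₂ := by
  obtain ⟨δ, w₁, w₂, w₃, e₁, -, -⟩ := TriCat.exists_rightDerived_ses (Coh.pushAb f) (QCoh.toAb_shortExact hS) i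
  exact e₁.isZero_of_both_zeros (h₁.eq_of_src _ _) (h₃.eq_of_tgt _ _)

theorem van_X₃ (hS : S.ShortExact) {i : ℕ} (h₂ : Van f i S.X₂) (h₁ : Van f (i + 1) S.X₁) : Van f i S.X₃ := by
  obtain ⟨δ, w₁, w₂, w₃, -, e₂, -⟩ := TriCat.exists_rightDerived_ses (Coh.pushAb f) (QCoh.toAb_shortExact hS) i
  exact e₂.isZero_of_both_zeros (h₂.eq_of_src _ _) (h₁.eq_of_tgt _ _)

theorem van_X₁ (hS : S.ShortExact) {i : ℕ} (h₂ : Van f (i + 1) S.X₂)
    (he : Epi ((Coh.RpushAb f i).map ((QCoh.toAbFunctor X).map S.g))) : Van f (i + 1) S.X₁ := by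
  obtain ⟨δ, w₁, w₂, w₃, -, -, e₃⟩ := TriCat.exists_rightDerived_ses (Coh.pushAb f) (QCoh.toAb_shortExact hS) i
  have hδ : δ = 0 := by
    haveI := he
    exact (cancel_epi ((Coh.RpushAb f i).map ((QCoh.toAbFunctor X).map S.g))).1 (w₂.trans comp_zero.symm)
  exact e₃.isZero_of_both_zeros hδ (h₂.eq_of_tgt _ _)

theorem van_X₁_of_van (hS : S.ShortExact) {i : ℕ} (h₂ : Van f (i + 1) S.X₂) (h₃ : Van f i S.X₃) :
    Van f (i + 1) S.X₁ :=
  van_X₁ f hS h₂ (IsZero.epi h₃ _)

theorem van_X₁_of_epi (hS : S.ShortExact) (h₂ : Van f 1 S.X₂)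
    (he : Epi ((Scheme.Modules.pushforward f).map S.g)) : Van f 1 S.X₁ := by
  refine van_X₁ f hS (i := 0) h₂ ?_
  haveI : PreservesFiniteColimits (QCoh.toAbFunctor Y) :=
    (QCoh.toAbFunctor Y).preservesFiniteColimits_of_preservesHomology
  haveI : Epi ((Coh.pushAb f).map ((QCoh.toAbFunctor X).map S.g)) := by
    haveI := he
    exact inferInstanceAs (Epi ((QCoh.toAbFunctor Y).map ((Scheme.Modules.pushforward f).map S.g)))
  haveI : PreservesFiniteLimits (Coh.pushAb f) := QCoh.preservesFiniteLimits_pushAb _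
  have hn := (Coh.pushAb f).rightDerivedZeroIsoSelf.hom.naturality ((QCoh.toAbFunctor X).map S.g)
  exact (Arrow.isoMk ((Coh.pushAb f).rightDerivedZeroIsoSelf.app _)
    ((Coh.pushAb f).rightDerivedZeroIsoSelf.app _) hn.symm : Arrow.mk _ ≅ Arrow.mk _) |>
    fun e => ((MorphismProperty.epimorphisms _).arrow_mk_iso_iff e).2 ‹_›

/-- Direct images of a sequence whose left term has no `R^1` are exact. -/
theorem shortExact_push (hS : S.ShortExact) (h₁ : Van f 1 S.X₁) :
    (S.map (Scheme.Modules.pushforward f)).ShortExact := by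
  haveI : HasInjectiveResolutions X.Modules := KFlatLib.hasInjectiveResolutions_modules
  haveI : PreservesFiniteLimits (Scheme.Modules.pushforward f) := QCoh.preservesFiniteLimits_push f
  haveI : PreservesFiniteLimits (Coh.pushAb f) := QCoh.preservesFiniteLimits_pushAb _
  haveI := hS.mono_f
  obtain ⟨δ, w₁, w₂, w₃, -, e₂, -⟩ := TriCat.exists_rightDerived_ses (Coh.pushAb f) (QCoh.toAb_shortExact hS) 0
  have h0 : Epi ((Coh.RpushAb f 0).map ((QCoh.toAbFunctor X).map S.g)) :=
    e₂.epi_f (h₁.eq_of_tgt _ _)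
  have hn := (Coh.pushAb f).rightDerivedZeroIsoSelf.hom.naturality ((QCoh.toAbFunctor X).map S.g)
  have h1 : Epi ((QCoh.toAbFunctor Y).map ((Scheme.Modules.pushforward f).map S.g)) :=
    ((MorphismProperty.epimorphisms _).arrow_mk_iso_iff
      (Arrow.isoMk ((Coh.pushAb f).rightDerivedZeroIsoSelf.app _)
        ((Coh.pushAb f).rightDerivedZeroIsoSelf.app _) hn.symm : Arrow.mk _ ≅ Arrow.mk _)).1 h0
  haveI : (QCoh.toAbFunctor Y).Faithful := inferInstanceAs (SheafOfModules.toSheaf Y.ringCatSheaf).Faithful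
  have hexact : (S.map (Scheme.Modules.pushforward f)).Exact :=
    ((S.map (Scheme.Modules.pushforward f)).exact_of_f_is_kernel
      ((KernelFork.isLimitMapConeEquiv _ (Scheme.Modules.pushforward f)).1
        (isLimitOfPreserves (Scheme.Modules.pushforward f) hS.fIsKernel)))
  exact { exact := hexact, epi_g := (QCoh.toAbFunctor Y).epi_of_epi_map h1,
          mono_f := inferInstanceAs (Mono ((Scheme.Modules.pushforward f).map S.f)) }

end Groth.Agent.KPE7
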