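import Groth.Agent.ExtPow7.Adapted
import Groth.Agent.ExtPow7.Exists
import Groth.Agent.ExtPow7.Basics
import Groth.Agent.H23.PicMul

/-!
# The short exact sequence of exterior powers of an extension by a line
-/

set_option autoImplicit false
set_option linter.style.haveILetI false
set_option linter.unusedSectionVars false
set_option backward.isDefEq.respectTransparency false
set_option backward.isDefEq.respectTransparency.types false

universe u

open CategoryTheory CategoryTheory.Limits AlgebraicGeometry TopologicalSpace Opposite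

noncomputable section

namespace Groth.Agent.KPE7

open Groth.Agent Groth.Agent.AModX Groth.Agent.ExtPow7
open scoped Groth.Agent.H23.PicMul

variable {X : Scheme.{u}}

/-- A short exact sequence transported along isomorphisms of its terms. -/
theorem exists_ses_of_isos {C : Type*} [Category C] [Abelian C] {S : ShortComplex C} (hS : S.ShortExact) {A B D : C}
    (a : S.X₁ ≅ A) (b : S.X₂ ≅ B) (d : S.X₃ ≅ D) :
    ∃ (f : A ⟶ B) (g : B ⟶ D) (w : f ≫ g = 0), (ShortComplex.mk f g w).ShortExact := by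
  have w : (a.inv ≫ S.f ≫ b.hom) ≫ (b.inv ≫ S.g ≫ d.hom) = 0 := by simp
  exact ⟨_, _, w, ShortComplex.shortExact_of_iso
    (ShortComplex.isoMk a b d (by simp) (by simp) : S ≅ ShortComplex.mk _ _ w) hS⟩

/-- `0 → Λ^{k+1} X₁ → Λ^{k+1} X₂ → Λ^k X₁ ⊗ X₃ → 0` when `X₃` is a line. -/
theorem exists_ses_extPow_line {S : ShortComplex X.Modules} (hS : S.ShortExact)
    (h₁ : FlatMod.IsFinLocFree S.X₁) (h₃' : FlatMod.IsFinLocFreeOfRank 1 S.X₃) (k : ℕ)
    (L L₁ L₀ : X.Modules)
    (hL₁ : ExtPow.IsExtPow (k + 1) S.X₁ L₁) (hL₀ : ExtPow.IsExtPow k S.X₁ L₀)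
    (hLp : ExtPow.IsExtPow (k + 1) S.X₂ L) :
    ∃ (f : L₁ ⟶ L) (g : L ⟶ ((DCoh.tensorBi (X := X)).obj L₀).obj S.X₃) (w : f ≫ g = 0),
      (ShortComplex.mk f g w).ShortExact := by
  let p := k + 1
  have h₃ : FlatMod.IsFinLocFree S.X₃ := fun x => let ⟨V, hx, he⟩ := h₃' x; ⟨V, 1, hx, he⟩
  choose L'r hL'r using fun i => exists_isExtPow h₁ i
  choose L''r hL''r using fun i => exists_isExtPow h₃ i
  let L' : ℕ → X.Modules := L'r
  let L'' : ℕ → X.Modules := L''r
  have hL' : ∀ i, FlatMod.IsFinLocFree (L' i) ∧ ExtPow.IsExtPow i S.X₁ (L' i) := fun i => (hL'r i).symm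
  have hL'' : ∀ i, FlatMod.IsFinLocFree (L'' i) ∧ ExtPow.IsExtPow i S.X₃ (L'' i) := fun i => (hL''r i).symm
  have hL : True ∧ ExtPow.IsExtPow p S.X₂ L := ⟨trivial, hLp⟩
  let P : ObjectProperty X.Modules := fun M => FlatMod.IsFinLocFree M
  obtain ⟨n', n'', U, s', t, hU, hUa, hs', hs''⟩ := exists_adapted hS h₁ h₃
  have hs := isFrame_app2 hS s' t hs' hs''
  let M := mat p U (app2 s' t) hs
  let d : ∀ x, I p (fun x => n' x + n'' x) x → ℕ := fun _ A => deg A
  have hgr : Glue.IsGraded M d := isGraded s' t hs' hs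
  let G : ℕ → X.Modules := fun i => Glue.mod (Glue.sub M d hgr i)
  have hG : ∀ i, P (G i) := fun i => Glue.isFinLocFree _ hU
  obtain ⟨eL⟩ := nonempty_iso_mat U (app2 s' t) hs hUa hU L hL.2
  obtain ⟨j0⟩ : Nonempty (G 0 ≅ L) := by
    obtain ⟨e0⟩ := Glue.nonempty_iso (Glue.sub M d hgr 0) (Glue.mod M)
      (fun x A => Glue.sec M x A.1) (fun x W hW => by
        have hb : (fun c : {A : I p (fun x => n' x + n'' x) x // 0 ≤ d x A} → Γ(X, W) =>
            ∑ A, c A • res (Glue.mod M) hW (Glue.sec M x A.1)) =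
            fun c => (LinearEquiv.ofBijective _ (Glue.bijective_co M x hW)).symm fun A => c ⟨A, Nat.zero_le _⟩ :=
          funext fun c => by
            refine (LinearEquiv.eq_symm_apply _).2 (funext fun B => ?_)
            show Glue.co M x hW (∑ A, c A • res (Glue.mod M) hW (Glue.sec M x A.1)) B = _
            simp only [map_sum, map_smul, Finset.sum_apply, Pi.smul_apply, Glue.co_sec, smul_eq_mul, mul_ite,
              mul_one, mul_zero]
            rw [Finset.sum_eq_single (⟨B, Nat.zero_le _⟩ : {A // 0 ≤ d x A})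
              (fun A _ hA => if_neg fun e => hA (Subtype.ext e.symm)) (fun hn => absurd (Finset.mem_univ _) hn),
              if_pos rfl]
        rw [hb]
        exact (LinearEquiv.bijective _).comp
          ⟨fun c c' h => funext fun A => congrFun h A.1, fun c => ⟨fun A => c A.1, rfl⟩⟩)
      (fun x y W hx hy A => by
        refine Glue.co_injective M y hy (funext fun B => ?_)
        rw [Glue.co_change M x y hx hy, map_sum]
        simp only [map_smul, Finset.sum_apply, Pi.smul_apply, Glue.co_sec, smul_eq_mul, ite_mul, one_mul, zero_mul,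
          mul_ite, mul_one, mul_zero, Finset.sum_ite_eq', Finset.mem_univ, if_true]
        rw [Finset.sum_eq_single (⟨B, Nat.zero_le _⟩ : {A // 0 ≤ d y A})
          (fun A _ hA => if_neg fun e => hA (Subtype.ext e.symm)) (fun hn => absurd (Finset.mem_univ _) hn), if_pos rfl]
        rfl) hU
    exact ⟨e0 ≪≫ eL⟩
  have htop : IsZero (G (k + 2)) :=
    Glue.isZero_sub_of_lt M d hgr (fun x A => Nat.lt_succ_of_le (deg_le A)) hU
  have hq : ∀ i ∈ Finset.range (p + 1), Nonempty (Glue.mod (Glue.quot M d hgr i) ≅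
      (((DCoh.tensorBi (X := X)).obj (L' i)).obj (L'' (p - i)))) := by
    intro i hi
    have hij : i + (p - i) = p := by
      have := Finset.mem_range.1 hi
      omega
    let s₃ : ∀ x, Fin (n'' x) → Γ(S.X₃, U x) := fun x k => S.g.app (U x) (t x k)
    obtain ⟨a'⟩ := nonempty_iso_mat U s' hs' hUa hU (L' i) (hL' i).2
    obtain ⟨a''⟩ := nonempty_iso_mat U s₃ hs'' hUa hU (L'' (p - i)) (hL'' (p - i)).2
    let N' := Glue.mod (mat i U s' hs')
    let N'' := Glue.mod (mat (p - i) U s₃ hs'')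
    obtain ⟨e⟩ := Glue.nonempty_iso (Glue.quot M d hgr i) (CohB1.tensorMod N' N'')
      (fun x A => InvX.tmul (Glue.sec (mat i U s' hs') x (pre' hij A.1 A.2))
        (Glue.sec (mat (p - i) U s₃ hs'') x (pre'' hij A.1 A.2))) (fun x W hW => by
        let σ₁ := (Fintype.equivFin (I i n' x)).symm
        let σ₂ := (Fintype.equivFin (I (p - i) n'' x)).symm
        have f₁ : H23.Frame.IsFrame N' (fun k => Glue.sec (mat i U s' hs') x (σ₁ k)) := fun W hW => by
          exact Glue.frame_sec (mat i U s' hs') x σ₁ W hW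
        have f₂ : H23.Frame.IsFrame N'' (fun k => Glue.sec (mat (p - i) U s₃ hs'') x (σ₂ k)) := fun W hW => by
          exact Glue.frame_sec (mat (p - i) U s₃ hs'') x σ₂ W hW
        have f := isFrame_tmul f₁ f₂ finProdFinEquiv.symm W hW
        let τ : Fin (Fintype.card (I i n' x) * Fintype.card (I (p - i) n'' x)) ≃
            {A : I p (fun x => n' x + n'' x) x // d x A = i} :=
          (finProdFinEquiv.symm.trans (σ₁.prodCongr σ₂)).trans (Equiv.ofBijective _ (bijective_pre hij)).symm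
        have hτ : ∀ q, (pre' hij (τ q).1 (τ q).2, pre'' hij (τ q).1 (τ q).2) =
            (σ₁ (finProdFinEquiv.symm q).1, σ₂ (finProdFinEquiv.symm q).2) := fun q =>
          Equiv.ofBijective_apply_symm_apply _ (bijective_pre hij) _
        refine (congrArg Function.Bijective (funext fun c => ?_)).mpr (f.comp (τ.arrowCongr (Equiv.refl _)).symm.bijective)
        show _ = H23.Frame.comb _ _ W hW fun q => c (τ q)
        rw [H23.Frame.comb, ← τ.sum_comp]
        refine Finset.sum_congr rfl fun q _ => congrArg (c (τ q) • ·) ?_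
        rw [show pre' hij (τ q).1 (τ q).2 = _ from (Prod.ext_iff.1 (hτ q)).1,
          show pre'' hij (τ q).1 (τ q).2 = _ from (Prod.ext_iff.1 (hτ q)).2]
        rfl)
      (fun x y W hx hy A => by
        rw [InvX.res_tmul, Glue.res_sec (mat i U s' hs') x y hx hy, Glue.res_sec (mat (p - i) U s₃ hs'') x y hx hy,
          tmul_sum_smul, ← (Equiv.ofBijective _ (bijective_pre hij)).sum_comp]
        refine Finset.sum_congr rfl fun B _ => ?_
        rw [InvX.res_tmul]
        exact congrArg (· • _) (quot_T s' t hs' hs'' hs hij x y hx hy A B).symm) hU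
    let b : CohB1.tensorMod N' N'' ≅ ((DCoh.tensorBi (X := X)).obj (L' i)).obj (L'' (p - i)) :=
      ((DCoh.tensorBi (X := X)).mapIso a').app N'' ≪≫ ((DCoh.tensorBi (X := X)).obj (L' i)).mapIso a''
    exact ⟨e ≪≫ b⟩
  have hz : ∀ i, i < k → IsZero (Glue.mod (Glue.quot M d hgr i)) := fun i hi => by
    obtain ⟨e⟩ := hq i (Finset.mem_range.2 (by omega))
    have h0 : IsZero (L'' (p - i)) := isZero_of_isExtPow_lt h₃' (by omega) (hL'' (p - i)).2
    haveI : ((DCoh.tensorBi (X := X)).obj (L' i)).Additive := Functor.additive_of_preserves_binary_products _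
    exact (((DCoh.tensorBi (X := X)).obj (L' i)).map_isZero h0).of_iso e
  have hGk : ∀ i, i ≤ k → Nonempty (G i ≅ L) := by
    intro i hi
    induction i with
    | zero => exact ⟨j0⟩
    | succ i ih =>
      obtain ⟨e⟩ := ih (by omega)
      have hs' := Glue.shortExact M d hgr i hU
      haveI := hs'.isIso_f_iff.2 (hz i (by omega))
      exact ⟨(asIso (Glue.incl M d hgr i)) ≪≫ e⟩
  obtain ⟨jk⟩ := hGk k le_rfl
  obtain ⟨q1⟩ := hq (k + 1) (Finset.mem_range.2 (by omega))
  obtain ⟨q0⟩ := hq k (Finset.mem_range.2 (by omega))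
  have hs1 := Glue.shortExact M d hgr (k + 1) hU
  haveI := hs1.isIso_g_iff.2 htop
  obtain ⟨u1⟩ := nonempty_iso_isExtPow h₁ (hL' (k + 1)).2 hL₁
  obtain ⟨u0⟩ := nonempty_iso_isExtPow h₁ (hL' k).2 hL₀
  obtain ⟨v1⟩ : Nonempty (((DCoh.tensorBi (X := X)).obj (L' (k + 1))).obj (L'' (p - (k + 1))) ≅ L' (k + 1)) := by
    obtain ⟨z⟩ := nonempty_iso_isExtPow h₃ (hL'' (p - (k + 1))).2
      (show ExtPow.IsExtPow (p - (k + 1)) S.X₃ (Coh.structureModule X) by
        rw [show p - (k + 1) = 0 from Nat.sub_self _]; exact isExtPow_zero _)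
    obtain ⟨r⟩ := H23.PicMul.unit (L' (k + 1))
    exact ⟨((DCoh.tensorBi (X := X)).obj (L' (k + 1))).mapIso z ≪≫ r⟩
  obtain ⟨z1⟩ := nonempty_iso_isExtPow h₃ (hL'' (p - k)).2
    (show ExtPow.IsExtPow (p - k) S.X₃ S.X₃ by
      rw [show p - k = 1 from Nat.add_sub_cancel_left k 1]; exact isExtPow_one _)
  exact exists_ses_of_isos (Glue.shortExact M d hgr k hU)
    (asIso (Glue.proj M d hgr (k + 1)) ≪≫ q1 ≪≫ v1 ≪≫ u1)
    jk (q0 ≪≫ ((DCoh.tensorBi (X := X)).mapIso u0).app _ ≪≫ ((DCoh.tensorBi (X := X)).obj L₀).mapIso z1)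

end Groth.Agent.KPE7
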