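import Groth.Agent.KPE7.Flf
import Groth.Agent.KPE7.Seq
import Groth.Agent.KPE7.SesExt
import Groth.Agent.ExtPow7.Lambda
import Groth.Agent.ExtPow7.PullMat
import Groth.Agent.CanonTriv.TopPow
import Groth.Agent.KRR7.Pull
import Groth.Agent.KRR7.PullModel
import Groth.Agent.KFlatLib.Scheme.PushCoprod

/-!
# Abstract projective bundles, and the ring maps between `K₀` of bundles
-/

set_option autoImplicit false
set_option linter.style.haveILetI false
set_option backward.isDefEq.respectTransparency false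
set_option linter.unusedSectionVars false
universe u
open CategoryTheory CategoryTheory.Limits AlgebraicGeometry
attribute [local instance] HasDerivedCategory.standard

noncomputable section

namespace Groth.Agent.KPE7

open Groth.Agent
open scoped Groth.Agent.H23.PicMul
open Groth.Agent.ExtPow7.Lam (c)
attribute [local instance] ExtPow7.Lam.commRing

variable {X T P : Scheme.{u}}

/-- `O(d) ⊗ F`. -/
abbrev tw (O : ℤ → P.Modules) (d : ℤ) (F : P.Modules) : P.Modules :=
  ((DCoh.tensorBi (X := P)).obj (O d)).obj F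

/-- Regularity relative to `π`. -/
def Reg (π : P ⟶ T) (O : ℤ → P.Modules) (F : P.Modules) : Prop :=
  ∀ i : ℕ, 1 ≤ i → Van π i (tw O (-(i : ℤ)) F)

/-- The properties of a projective bundle used to compute `K₀`. -/
structure Bd (π : P ⟶ T) (n : ℕ) (O : ℤ → P.Modules) (E : T.Modules)
    (q : (Scheme.Modules.pullback π).obj E ⟶ O 1) : Prop where
  inv : ∀ a, PicF.IsInvertible (O a)
  add : ∀ a b, PicF.cl (O a) * PicF.cl (O b) = PicF.cl (O (a + b))
  rankE : FlatMod.IsFinLocFreeOfRank (n + 1) E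
  epi : Epi q
  van : ∀ G : T.Modules, FlatMod.IsFinLocFree G → ∀ d : ℤ, -(n : ℤ) ≤ d → ∀ k : ℕ,
    Van π (k + 1) (tw O d ((Scheme.Modules.pullback π).obj G))
  above : ∀ M : P.Modules, Coh.IsQCoh M → ∀ k : ℕ, n ≤ k → Van π (k + 1) M
  low : ∀ G : T.Modules, FlatMod.IsFinLocFree G → ∀ d : ℤ, -(n : ℤ) ≤ d → d < 0 →
    Van π 0 (tw O d ((Scheme.Modules.pullback π).obj G))
  unit : ∀ G : T.Modules, FlatMod.IsFinLocFree G →
    IsIso ((Scheme.Modules.pullbackPushforwardAdjunction π).unit.app G)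
  gen : ∀ F : P.Modules, FlatMod.IsFinLocFree F → Reg π O F →
    Epi ((Scheme.Modules.pullbackPushforwardAdjunction π).counit.app F)
  pushFlf : ∀ F : P.Modules, FlatMod.IsFinLocFree F → Reg π O F →
    FlatMod.IsFinLocFree ((Scheme.Modules.pushforward π).obj F)
  serre : ∀ F : P.Modules, FlatMod.IsFinLocFree F → ∃ m₀ : ℤ, ∀ m, m₀ ≤ m → Reg π O (tw O m F)

/-! ### Classes -/

theorem flf_iso {A B : X.Modules} (e : A ≅ B) (h : FlatMod.IsFinLocFree A) : FlatMod.IsFinLocFree B :=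
  H23.PullPush.isFinLocFree_of_iso e h

theorem c_congr {A B : X.Modules} (hA : FlatMod.IsFinLocFree A) (h : PicF.cl A = PicF.cl B) : c A = c B :=
  ExtPow7.Lam.c_iso (H23.PicMul.cl_eq_iff.1 h).some hA

theorem c_tensor {A B : X.Modules} (hA : FlatMod.IsFinLocFree A) (hB : FlatMod.IsFinLocFree B) :
    c (((DCoh.tensorBi (X := X)).obj A).obj B) = c A * c B :=
  (ExtPow7.Lam.mul_eq hA hB).symm

theorem flf_inv {L : X.Modules} (hL : PicF.IsInvertible L) : FlatMod.IsFinLocFree L :=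
  H23.PullPush.isFinLocFree_of_isInvertible hL

theorem rank_one_inv {L : X.Modules} (hL : PicF.IsInvertible L) : FlatMod.IsFinLocFreeOfRank 1 L := fun x =>
  let ⟨U, hx, ⟨e⟩⟩ := hL x
  ⟨U, hx, ⟨e ≪≫ (coproductUniqueIso fun _ : Fin 1 => Coh.structureModule (U : Scheme.{u})).symm⟩⟩

theorem isUnit_c {L : X.Modules} (hL : PicF.IsInvertible L) : IsUnit (c L) := by
  obtain ⟨D, hD, e⟩ := H23.PicInv.exists_inverse hL
  refine IsUnit.of_mul_eq_one (c D) ?_
  rw [← c_tensor (flf_inv hL) (flf_inv hD)]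
  exact ExtPow7.Lam.c_iso e.some (ExtPow7.Lam.flf_tensor (flf_inv hL) (flf_inv hD))

theorem exists_pullK (f : P ⟶ T) : ∃ g : SGA6.Kvb T →+* SGA6.Kvb P, ∀ N : T.Modules, FlatMod.IsFinLocFree N →
    g (c N) = c ((Scheme.Modules.pullback f).obj N) := by
  obtain ⟨g, hg⟩ := KRR7.exists_pullHom f
  have hc : ∀ N : T.Modules, FlatMod.IsFinLocFree N → g (c N) = c ((Scheme.Modules.pullback f).obj N) :=
    fun N hN => hg N hN
  refine ⟨{ g with map_one' := ?_, map_mul' := ?_ }, hc⟩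
  · show g (c (Coh.structureModule T)) = c (Coh.structureModule P)
    rw [hc _ ExtPow7.Lam.flf_O]
    exact ExtPow7.Lam.c_iso (PicClLib.nonempty_pullback_structureModule f).some
      (KFlatLib.isFinLocFree_pullback f ExtPow7.Lam.flf_O)
  · intro x y
    show g (x * y) = g x * g y
    refine DFunLike.congr_fun (DFunLike.congr_fun (KZ.K0sub_hom_ext _
      (f := (AddMonoidHom.compHom g).comp AddMonoidHom.mul)
      (g := (AddMonoidHom.compHom.flip g).comp (AddMonoidHom.mul.comp g)) fun E hE =>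
      KZ.K0sub_hom_ext _ fun F hF => ?_) x) y
    show g (c E * c F) = g (c E) * g (c F)
    rw [← c_tensor hE hF, hc _ (ExtPow7.Lam.flf_tensor hE hF), hc _ hE, hc _ hF,
      ← c_tensor (KFlatLib.isFinLocFree_pullback f hE) (KFlatLib.isFinLocFree_pullback f hF)]
    exact ExtPow7.Lam.c_iso (H23.PicMul.pull f E F).some
      (KFlatLib.isFinLocFree_pullback f (ExtPow7.Lam.flf_tensor hE hF))

/-- Pullback on `K₀` of bundles. -/
def pullK (f : P ⟶ T) : SGA6.Kvb T →+* SGA6.Kvb P := (exists_pullK f).choose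

theorem pullK_c (f : P ⟶ T) {N : T.Modules} (hN : FlatMod.IsFinLocFree N) :
    pullK f (c N) = c ((Scheme.Modules.pullback f).obj N) :=
  (exists_pullK f).choose_spec N hN

namespace Bd

variable {π : P ⟶ T} {n : ℕ} {O : ℤ → P.Modules} {E : T.Modules}
  {q : (Scheme.Modules.pullback π).obj E ⟶ O 1} (B : Bd π n O E q)

include B

theorem cl_zero : PicF.cl (O 0) = 1 := by
  refine (H23.PicMul.isUnit_cl (B.inv 0)).mul_left_cancel ?_
  rw [B.add, mul_one, add_zero]

theorem flfO (a : ℤ) : FlatMod.IsFinLocFree (O a) := flf_inv (B.inv a)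

theorem flf_tw {F : P.Modules} (hF : FlatMod.IsFinLocFree F) (a : ℤ) : FlatMod.IsFinLocFree (tw O a F) :=
  ExtPow7.Lam.flf_tensor (B.flfO a) hF

theorem cl_tw (a : ℤ) (F : P.Modules) : PicF.cl (tw O a F) = PicF.cl (O a) * PicF.cl F :=
  H23.PicMul.cl_tensor _ _

theorem nonempty_tw_zero (F : P.Modules) : Nonempty (tw O 0 F ≅ F) :=
  H23.PicMul.cl_eq_iff.1 (by rw [B.cl_tw, B.cl_zero, one_mul])

theorem nonempty_tw_tw {a b d : ℤ} (h : a + b = d) (F : P.Modules) : Nonempty (tw O a (tw O b F) ≅ tw O d F) :=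
  H23.PicMul.cl_eq_iff.1 (by rw [B.cl_tw, B.cl_tw, B.cl_tw, ← mul_assoc, B.add, h])

theorem shortExact_tw {S : ShortComplex P.Modules} (hS : S.ShortExact) (a : ℤ) :
    ∃ S' : ShortComplex P.Modules, S'.ShortExact ∧ S'.X₁ = tw O a S.X₁ ∧ S'.X₂ = tw O a S.X₂ ∧
      S'.X₃ = tw O a S.X₃ :=
  ⟨_, CurveTensor.shortExact_tensor (B.flfO a) S.f S.g S.zero hS, rfl, rfl, rfl⟩

theorem c_tw {F : P.Modules} (hF : FlatMod.IsFinLocFree F) (a : ℤ) : c (tw O a F) = c (O a) * c F :=
  c_tensor (B.flfO a) hF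

theorem c_zero : c (O 0) = 1 := c_congr (B.flfO 0) B.cl_zero

theorem c_add (a b : ℤ) : c (O a) * c (O b) = c (O (a + b)) := by
  rw [← c_tensor (B.flfO a) (B.flfO b)]
  refine c_congr (ExtPow7.Lam.flf_tensor (B.flfO a) (B.flfO b)) ?_
  exact (H23.PicMul.cl_tensor _ _).trans (B.add a b)

theorem flf_kerq : FlatMod.IsFinLocFree (kernel q) := by
  haveI := B.epi
  exact flf_ker (KZ.kerSeq_shortExact q) (KFlatLib.isFinLocFree_pullback π (KRR7.flf_of_rank B.rankE))
    (B.flfO 1)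

theorem flfE : FlatMod.IsFinLocFree E := KRR7.flf_of_rank B.rankE

end Bd

end Groth.Agent.KPE7
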