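import Groth.Agent.KPE7.Basic

/-!
# The Koszul relation on a projective bundle, upstairs and after direct image
-/

set_option autoImplicit false
set_option linter.style.haveILetI false
set_option linter.unusedSectionVars false
set_option backward.isDefEq.respectTransparency false
universe u
open CategoryTheory CategoryTheory.Limits AlgebraicGeometry
attribute [local instance] HasDerivedCategory.standard

noncomputable section

namespace Groth.Agent.KPE7

open Groth.Agent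
open scoped Groth.Agent.H23.PicMul
open Groth.Agent.ExtPow7.Lam (c)
attribute [local instance] ExtPow7.Lam.commRing

variable {T P : Scheme.{u}} {π : P ⟶ T} {n : ℕ} {O : ℤ → P.Modules} {E : T.Modules}
  {q : (Scheme.Modules.pullback π).obj E ⟶ O 1}

namespace Bd

variable (B : Bd π n O E q)
include B

/-- `Λ^i E`. -/
def ext (i : ℕ) : T.Modules := (ExtPow7.exists_isExtPow B.flfE i).choose

/-- `Λ^i` of the kernel of `q`. -/
def Z (i : ℕ) : P.Modules := (ExtPow7.exists_isExtPow B.flf_kerq i).choose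

/-- The class of `Λ^i E`. -/
def lam (i : ℕ) : SGA6.Kvb T := c (B.ext i)

theorem ext_spec (i : ℕ) : ExtPow.IsExtPow i E (B.ext i) ∧ FlatMod.IsFinLocFree (B.ext i) :=
  (ExtPow7.exists_isExtPow B.flfE i).choose_spec

theorem Z_spec (i : ℕ) : ExtPow.IsExtPow i (kernel q) (B.Z i) ∧ FlatMod.IsFinLocFree (B.Z i) :=
  (ExtPow7.exists_isExtPow B.flf_kerq i).choose_spec

theorem lam_zero : B.lam 0 = 1 :=
  ExtPow7.Lam.c_iso (ExtPow7.nonempty_iso_isExtPow B.flfE (B.ext_spec 0).1 (ExtPow7.isExtPow_zero E)).some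
    (B.ext_spec 0).2

theorem isUnit_lam_top : IsUnit (B.lam (n + 1)) :=
  isUnit_c (CanonTriv.isInvertible_of_isExtPow_top B.rankE (B.ext_spec (n + 1)).1)

/-- `0 → Λ^{k+1} → π^*Λ^{k+1}E → Λ^k ⊗ O(1) → 0`. -/
theorem exists_ses (k : ℕ) : ∃ (f : B.Z (k + 1) ⟶ (Scheme.Modules.pullback π).obj (B.ext (k + 1)))
    (g : (Scheme.Modules.pullback π).obj (B.ext (k + 1)) ⟶ ((DCoh.tensorBi (X := P)).obj (B.Z k)).obj (O 1))
    (w : f ≫ g = 0), (ShortComplex.mk f g w).ShortExact := by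
  haveI := B.epi
  have hp := KFlatLib.isFinLocFree_pullback π B.flfE
  obtain ⟨L, hL, -⟩ := ExtPow7.exists_isExtPow hp (k + 1)
  obtain ⟨e⟩ := ExtPow7.nonempty_iso_pullback_isExtPow π B.flfE (B.ext_spec (k + 1)).1 hL
  obtain ⟨f, g, w, h⟩ := exists_ses_extPow_line (KZ.kerSeq_shortExact q) B.flf_kerq (rank_one_inv (B.inv 1)) k L
    (B.Z (k + 1)) (B.Z k) (B.Z_spec (k + 1)).1 (B.Z_spec k).1 hL
  exact exists_ses_of_isos h (Iso.refl _) e.symm (Iso.refl _)

theorem cl_Z_zero : PicF.cl (B.Z 0) = 1 :=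
  H23.PicMul.cl_eq_iff.2 (ExtPow7.nonempty_iso_isExtPow B.flf_kerq (B.Z_spec 0).1 (ExtPow7.isExtPow_zero _))

theorem isZero_Z_top : IsZero (B.Z (n + 1)) := by
  obtain ⟨f, g, w, h⟩ := B.exists_ses (n + 1)
  haveI := h.epi_g
  haveI : (Scheme.Modules.pullback π).Additive := Functor.additive_of_preserves_binary_products _
  have h0 : IsZero (((DCoh.tensorBi (X := P)).obj (B.Z (n + 1))).obj (O 1)) :=
    IsZero.of_epi g ((Scheme.Modules.pullback π).map_isZero
      (ExtPow7.isZero_of_isExtPow_lt B.rankE (by omega) (B.ext_spec (n + 1 + 1)).1))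
  -- untwist
  obtain ⟨e⟩ : Nonempty (B.Z (n + 1) ≅
      ((DCoh.tensorBi (X := P)).obj (O (-1))).obj (((DCoh.tensorBi (X := P)).obj (B.Z (n + 1))).obj (O 1))) :=
    H23.PicMul.cl_eq_iff.1 (by
      show _ = PicF.cl (CohB1.tensorMod _ (CohB1.tensorMod _ _))
      rw [H23.PicMul.cl_tensor, H23.PicMul.cl_tensor, mul_left_comm, B.add, neg_add_cancel, B.cl_zero, mul_one])
  haveI : ((DCoh.tensorBi (X := P)).obj (O (-1))).Additive := Functor.additive_of_preserves_binary_products _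
  exact (((DCoh.tensorBi (X := P)).obj (O (-1))).map_isZero h0).of_iso e

theorem c_pull_ext (k : ℕ) : pullK π (B.lam (k + 1)) = c (B.Z (k + 1)) + c (B.Z k) * c (O 1) := by
  obtain ⟨f, g, w, h⟩ := B.exists_ses k
  rw [lam, pullK_c π (B.ext_spec (k + 1)).2, ← c_tensor (B.Z_spec k).2 (B.flfO 1)]
  exact KZ.clSub_ses (fun M : P.Modules => FlatMod.IsFinLocFree M) h (B.Z_spec (k + 1)).2
    (KFlatLib.isFinLocFree_pullback π (B.ext_spec (k + 1)).2)
    (ExtPow7.Lam.flf_tensor (B.Z_spec k).2 (B.flfO 1))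

omit B in
theorem telescope {G : Type*} [AddCommGroup G] (y v : ℕ → G) (h0 : y 0 = v 0) :
    ∀ m, (∀ k, k < m → y (k + 1) = v (k + 1) + v k) →
      ∑ i ∈ Finset.range (m + 1), ((-1 : ℤ) ^ i) • y i = ((-1 : ℤ) ^ m) • v m
  | 0, _ => by simp [h0]
  | m + 1, h => by
    rw [Finset.sum_range_succ, telescope y v h0 m fun k hk => h k (hk.trans (Nat.lt_succ_self m)),
      h m (Nat.lt_succ_self m), smul_add, pow_succ, mul_neg_one, neg_smul, neg_smul]
    abel

/-- The Koszul relation. -/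
theorem koszul : ∑ i ∈ Finset.range (n + 2), ((-1 : ℤ) ^ i) • (pullK π (B.lam i) * c (O (-(i : ℤ)))) = 0 := by
  rw [telescope (fun i => pullK π (B.lam i) * c (O (-(i : ℤ)))) (fun i => c (B.Z i) * c (O (-(i : ℤ)))) ?_ (n + 1)
    fun k _ => ?_, show c (B.Z (n + 1)) = 0 from KZ.clSub_isZero _ B.isZero_Z_top, zero_mul, smul_zero]
  · rw [B.lam_zero, map_one]
    congr 1
    rw [ExtPow7.Lam.one_eq]
    exact (c_congr (B.Z_spec 0).2 (B.cl_Z_zero.trans H23.PicMul.one_def)).symm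
  · show _ * _ = _
    rw [B.c_pull_ext k, add_mul, mul_assoc, B.c_add]
    congr 2
    rw [show (1 : ℤ) + -((k + 1 : ℕ) : ℤ) = -(k : ℤ) by push_cast; ring]

/-! ### Direct images -/

/-- `Λ^k ⊗ π^*N`, twisted by `b`. -/
abbrev Y (k : ℕ) (N : T.Modules) (b : ℤ) : P.Modules :=
  tw O b (((DCoh.tensorBi (X := P)).obj ((Scheme.Modules.pullback π).obj N)).obj (B.Z k))

theorem exists_ses_Y {N : T.Modules} (hN : FlatMod.IsFinLocFree N) (k : ℕ) (b : ℤ) :
    ∃ (f : B.Y (k + 1) N b ⟶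
        tw O b ((Scheme.Modules.pullback π).obj (((DCoh.tensorBi (X := T)).obj (B.ext (k + 1))).obj N)))
      (g : tw O b ((Scheme.Modules.pullback π).obj (((DCoh.tensorBi (X := T)).obj (B.ext (k + 1))).obj N)) ⟶
        B.Y k N (b + 1))
      (w : f ≫ g = 0), (ShortComplex.mk f g w).ShortExact := by
  obtain ⟨f, g, w, h⟩ := B.exists_ses k
  have h1 := CurveTensor.shortExact_tensor (KFlatLib.isFinLocFree_pullback π hN) f g w h
  have h2 := CurveTensor.shortExact_tensor (B.flfO b) _ _ _ h1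
  refine exists_ses_of_isos h2 (Iso.refl _) (H23.PicMul.cl_eq_iff.1 ?_).some (H23.PicMul.cl_eq_iff.1 ?_).some
  · show PicF.cl (CohB1.tensorMod _ (CohB1.tensorMod _ _)) =
      PicF.cl (CohB1.tensorMod _ ((Scheme.Modules.pullback π).obj (CohB1.tensorMod _ _)))
    rw [H23.PicMul.cl_tensor, H23.PicMul.cl_tensor, H23.PicMul.cl_tensor,
      H23.PicMul.cl_eq_iff.2 (H23.PicMul.pull π (B.ext (k + 1)) N), H23.PicMul.cl_tensor,
      mul_comm (PicF.cl ((Scheme.Modules.pullback π).obj N))]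
  · show PicF.cl (CohB1.tensorMod _ (CohB1.tensorMod _ (CohB1.tensorMod _ _))) =
      PicF.cl (CohB1.tensorMod _ (CohB1.tensorMod _ _))
    simp only [H23.PicMul.cl_tensor]
    rw [← B.add b 1]
    ac_rfl

theorem flf_Y {N : T.Modules} (hN : FlatMod.IsFinLocFree N) (k : ℕ) (b : ℤ) : FlatMod.IsFinLocFree (B.Y k N b) :=
  B.flf_tw (ExtPow7.Lam.flf_tensor (KFlatLib.isFinLocFree_pullback π hN) (B.Z_spec k).2) b

theorem isZero_Y_top (N : T.Modules) (b : ℤ) : IsZero (B.Y (n + 1) N b) := by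
  haveI : ((DCoh.tensorBi (X := P)).obj (O b)).Additive := Functor.additive_of_preserves_binary_products _
  haveI : ((DCoh.tensorBi (X := P)).obj ((Scheme.Modules.pullback π).obj N)).Additive :=
    Functor.additive_of_preserves_binary_products _
  exact ((DCoh.tensorBi (X := P)).obj (O b)).map_isZero
    (((DCoh.tensorBi (X := P)).obj ((Scheme.Modules.pullback π).obj N)).map_isZero B.isZero_Z_top)

theorem van_Y {N : T.Modules} (hN : FlatMod.IsFinLocFree N) :
    ∀ (m k : ℕ), k + m = n + 1 → ∀ b : ℤ, 1 - (k : ℤ) ≤ b → ∀ i : ℕ, Van π (i + 1) (B.Y k N b)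
  | 0, k, hk, b, _, i => by
    obtain rfl : k = n + 1 := by omega
    haveI : (Coh.RpushAb π (i + 1)).Additive := inferInstance
    exact (Coh.RpushAb π (i + 1)).map_isZero ((QCoh.toAbFunctor P).map_isZero (B.isZero_Y_top N b))
  | m + 1, k, hk, b, hb, i => by
    obtain ⟨f, g, w, h⟩ := B.exists_ses_Y hN k (b - 1)
    have h3 := van_X₃ π h (i := i + 1)
      (B.van _ (ExtPow7.Lam.flf_tensor (B.ext_spec (k + 1)).2 hN) _ (by omega) i)
      (van_Y hN m (k + 1) (by omega) (b - 1) (by push_cast; omega) (i + 1))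
    simpa using h3

theorem reg_twF_pullback {N : T.Modules} (hN : FlatMod.IsFinLocFree N) {b : ℤ} (hb : 0 ≤ b) :
    Reg π O (tw O b ((Scheme.Modules.pullback π).obj N)) := by
  intro i hi
  obtain ⟨j, rfl⟩ := Nat.exists_eq_add_of_le' hi
  obtain ⟨e⟩ := B.nonempty_tw_tw (a := -((j + 1 : ℕ) : ℤ)) (b := b) rfl ((Scheme.Modules.pullback π).obj N)
  refine van_iso π e.symm ?_
  by_cases hj : j < n
  · exact B.van N hN _ (by push_cast; omega) j
  · exact B.above _ (QCoh.isQCoh_of_isFinLocFree (B.flf_tw (KFlatLib.isFinLocFree_pullback π hN) _)) j (by omega)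

theorem flf_push_pullback {N : T.Modules} (hN : FlatMod.IsFinLocFree N) {b : ℤ} (hb : -(n : ℤ) ≤ b) :
    FlatMod.IsFinLocFree ((Scheme.Modules.pushforward π).obj (tw O b ((Scheme.Modules.pullback π).obj N))) := by
  by_cases h0 : 0 ≤ b
  · exact B.pushFlf _ (B.flf_tw (KFlatLib.isFinLocFree_pullback π hN) b) (B.reg_twF_pullback hN h0)
  · exact KFlatLib.isFinLocFree_of_isZero ((van_zero_iff π _).1 (B.low N hN b hb (by omega)))

theorem flf_push_Y {N : T.Modules} (hN : FlatMod.IsFinLocFree N) :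
    ∀ (k : ℕ), k ≤ n + 1 → ∀ b : ℤ, 1 - (k : ℤ) ≤ b →
      FlatMod.IsFinLocFree ((Scheme.Modules.pushforward π).obj (B.Y k N b))
  | 0, _, b, hb => by
    obtain ⟨e⟩ : Nonempty (tw O b ((Scheme.Modules.pullback π).obj N) ≅ B.Y 0 N b) :=
      H23.PicMul.cl_eq_iff.1 (by
        show PicF.cl (CohB1.tensorMod _ _) = PicF.cl (CohB1.tensorMod _ (CohB1.tensorMod _ _))
        simp only [H23.PicMul.cl_tensor]
        rw [B.cl_Z_zero, mul_one])
    exact flf_iso ((Scheme.Modules.pushforward π).mapIso e) (B.flf_push_pullback hN (by omega))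
  | k + 1, hk, b, hb => by
    obtain ⟨f, g, w, h⟩ := B.exists_ses_Y hN k b
    have h' := shortExact_push π h (B.van_Y hN (n - k) (k + 1) (by omega) b hb 0)
    exact flf_ker h' (B.flf_push_pullback (ExtPow7.Lam.flf_tensor (B.ext_spec (k + 1)).2 hN) (by omega))
      (flf_push_Y hN k (by omega) (b + 1) (by omega))

theorem exists_A (b : ℤ) : ∃ a : SGA6.Kvb T →+ SGA6.Kvb T, -(n : ℤ) ≤ b → ∀ N : T.Modules, FlatMod.IsFinLocFree N →
    a (c N) = c ((Scheme.Modules.pushforward π).obj (tw O b ((Scheme.Modules.pullback π).obj N))) := by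
  by_cases hb : -(n : ℤ) ≤ b
  · obtain ⟨a, ha⟩ := KZ.exists_liftSub (fun M : T.Modules => FlatMod.IsFinLocFree M)
      (fun N => c ((Scheme.Modules.pushforward π).obj (tw O b ((Scheme.Modules.pullback π).obj N))))
      fun S hS h₁ h₂ h₃ => by
        have hs := CurveTensor.shortExact_tensor (B.flfO b) _ _ _ (KRR7.shortExact_pullback_flf π hS h₃)
        exact KZ.clSub_ses (fun M : T.Modules => FlatMod.IsFinLocFree M) (shortExact_push π hs (B.van _ h₁ b hb 0))
          (B.flf_push_pullback h₁ hb) (B.flf_push_pullback h₂ hb) (B.flf_push_pullback h₃ hb)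
    exact ⟨a, fun _ => ha⟩
  · exact ⟨0, fun h => absurd h hb⟩

/-- `x ↦ π_*(π^*x ⊗ O(b))`, for `b ≥ -n`. -/
def A (b : ℤ) : SGA6.Kvb T →+ SGA6.Kvb T := (B.exists_A b).choose

theorem A_c {b : ℤ} (hb : -(n : ℤ) ≤ b) {N : T.Modules} (hN : FlatMod.IsFinLocFree N) :
    B.A b (c N) = c ((Scheme.Modules.pushforward π).obj (tw O b ((Scheme.Modules.pullback π).obj N))) :=
  (B.exists_A b).choose_spec hb N hN

theorem A_low {b : ℤ} (hb : -(n : ℤ) ≤ b) (hb' : b < 0) (x : SGA6.Kvb T) : B.A b x = 0 := by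
  refine DFunLike.congr_fun (KZ.K0sub_hom_ext _ (f := B.A b) (g := 0) fun N hN => ?_) x
  rw [show B.A b (c N) = _ from B.A_c hb hN]
  exact KZ.clSub_isZero _ ((van_zero_iff π _).1 (B.low N hN b hb hb'))

theorem A_zero (x : SGA6.Kvb T) : B.A 0 x = x := by
  refine DFunLike.congr_fun (KZ.K0sub_hom_ext _ (f := B.A 0) (g := AddMonoidHom.id _) fun N hN => ?_) x
  rw [show B.A 0 (c N) = _ from B.A_c (by omega) hN]
  haveI := B.unit N hN
  obtain ⟨e⟩ := B.nonempty_tw_zero ((Scheme.Modules.pullback π).obj N)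
  exact (ExtPow7.Lam.c_iso ((asIso ((Scheme.Modules.pullbackPushforwardAdjunction π).unit.app N)) ≪≫
    (Scheme.Modules.pushforward π).mapIso e.symm) hN).symm

/-- The recurrence. -/
theorem A_rec {a : ℤ} (ha : 1 ≤ a) (x : SGA6.Kvb T) :
    ∑ i ∈ Finset.range (n + 2), ((-1 : ℤ) ^ i) • B.A (a - (i : ℤ)) (B.lam i * x) = 0 := by
  have hf : (∑ i ∈ Finset.range (n + 2), ((-1 : ℤ) ^ i) • ((B.A (a - (i : ℤ))).comp
      (AddMonoidHom.mulLeft (B.lam i)))) = 0 := by
    refine KZ.K0sub_hom_ext _ fun N hN => ?_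
    rw [AddMonoidHom.finsetSum_apply, AddMonoidHom.zero_apply]
    simp only [AddMonoidHom.smul_apply, AddMonoidHom.comp_apply, AddMonoidHom.coe_mulLeft]
    rw [telescope (fun i => B.A (a - (i : ℤ)) (B.lam i * c N))
      (fun i => c ((Scheme.Modules.pushforward π).obj (B.Y i N (a - (i : ℤ))))) ?_ (n + 1) fun k hk => ?_]
    · rw [show c ((Scheme.Modules.pushforward π).obj (B.Y (n + 1) N (a - ((n + 1 : ℕ) : ℤ)))) = 0 from
        KZ.clSub_isZero _ ((Scheme.Modules.pushforward π).map_isZero (B.isZero_Y_top N _)), smul_zero]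
    · rw [B.lam_zero, one_mul]
      simp only [Nat.cast_zero, sub_zero]
      rw [show B.A a (c N) = _ from B.A_c (by omega) hN]
      refine ExtPow7.Lam.c_iso ((Scheme.Modules.pushforward π).mapIso (H23.PicMul.cl_eq_iff.1 ?_).some)
        (B.flf_push_pullback hN (by omega))
      show PicF.cl (CohB1.tensorMod _ _) = PicF.cl (CohB1.tensorMod _ (CohB1.tensorMod _ _))
      simp only [H23.PicMul.cl_tensor]
      rw [B.cl_Z_zero, mul_one]
    · obtain ⟨f, g, w, h⟩ := B.exists_ses_Y hN k (a - ((k + 1 : ℕ) : ℤ))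
      have hb : -(n : ℤ) ≤ a - ((k + 1 : ℕ) : ℤ) := by push_cast; omega
      show B.A _ (c (B.ext (k + 1)) * c N) = _
      rw [← c_tensor (B.ext_spec (k + 1)).2 hN, show B.A _ (c _) = _ from
        B.A_c hb (ExtPow7.Lam.flf_tensor (B.ext_spec (k + 1)).2 hN)]
      have h' := shortExact_push π h (B.van_Y hN (n - k) (k + 1) (by omega) _ (by push_cast; omega) 0)
      have e1 := KZ.clSub_ses (fun M : T.Modules => FlatMod.IsFinLocFree M) h'
        (B.flf_push_Y hN (k + 1) (by omega) _ (by push_cast; omega))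
        (B.flf_push_pullback (ExtPow7.Lam.flf_tensor (B.ext_spec (k + 1)).2 hN) hb)
        (B.flf_push_Y hN k (by omega) _ (by push_cast; omega))
      refine e1.trans ?_
      exact congrArg₂ (· + ·) rfl
        (congrArg (fun z => c ((Scheme.Modules.pushforward π).obj (B.Y k N z)))
          (show a - ((k + 1 : ℕ) : ℤ) + 1 = a - (k : ℤ) by push_cast; ring))
  have h := DFunLike.congr_fun hf x
  simpa [AddMonoidHom.finsetSum_apply] using h

end Bd

end Groth.Agent.KPE7
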