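import Groth.Agent.KPE7.Koszul
import Groth.Agent.KFlatLib.Scheme.ProjLocFree
import Mathlib.Order.Filter.Germ.Basic

/-!
# `K₀` of bundles on a projective bundle is free on a window of twists
-/

set_option autoImplicit false
set_option linter.style.haveILetI false
set_option linter.unusedSectionVars false
set_option backward.isDefEq.respectTransparency false
universe u
open CategoryTheory CategoryTheory.Limits AlgebraicGeometry Filter
attribute [local instance] HasDerivedCategory.standard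

noncomputable section

namespace Groth.Agent.KPE7

open Groth.Agent
open scoped Groth.Agent.H23.PicMul
open Groth.Agent.ExtPow7.Lam (c)
attribute [local instance] ExtPow7.Lam.commRing

variable {T P : Scheme.{u}} {π : P ⟶ T} {n : ℕ} {O : ℤ → P.Modules} {E : T.Modules}
  {q : (Scheme.Modules.pullback π).obj E ⟶ O 1}

/-- `x ↦ Σ π^*x_i · [O(c₀ + i)]`. -/
def window (π : P ⟶ T) (n : ℕ) (O : ℤ → P.Modules) (c₀ : ℤ) : (Fin (n + 1) → SGA6.Kvb T) →+ SGA6.Kvb P where
  toFun x := ∑ i : Fin (n + 1), pullK π (x i) * c (O (c₀ + (i : ℕ)))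
  map_zero' := by simp
  map_add' x y := by simp [add_mul, Finset.sum_add_distrib]

/-- the condition met by the iterated syzygies -/
def Good (π : P ⟶ T) (n : ℕ) (O : ℤ → P.Modules) (j : ℕ) (F : P.Modules) : Prop :=
  FlatMod.IsFinLocFree F ∧ Reg π O F ∧ ∀ i, i < j → i < n → Van π i (tw O (-((i + 1 : ℕ) : ℤ)) F)

/-- A germ at infinity. -/
abbrev germ (f : ℤ → SGA6.Kvb T) : Germ (atTop : Filter ℤ) (SGA6.Kvb T) := Germ.ofFun f

namespace Bd

variable (B : Bd π n O E q)
include B

theorem mem_range_window (c₀ a : ℤ) (x : SGA6.Kvb T) :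
    pullK π x * c (O a) ∈ (window π n O c₀).range := by
  classical
  -- the Koszul relation, multiplied
  have hK : ∀ (a : ℤ) (x : SGA6.Kvb T),
      ∑ i ∈ Finset.range (n + 2), ((-1 : ℤ) ^ i) • (pullK π (B.lam i * x) * c (O (a - (i : ℤ)))) = 0 := by
    intro a x
    have h := congrArg (· * (pullK π x * c (O a))) B.koszul
    simp only [Finset.sum_mul, zero_mul, smul_mul_assoc] at h
    rw [← h]
    refine Finset.sum_congr rfl fun i _ => ?_
    rw [map_mul, show a - (i : ℤ) = -(i : ℤ) + a by ring, ← B.c_add]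
    congr 1
    ring
  have hbase : ∀ i : ℕ, i ≤ n → ∀ x, pullK π x * c (O (c₀ + i)) ∈ (window π n O c₀).range := fun i hi x => by
    refine ⟨Pi.single (⟨i, by omega⟩ : Fin (n + 1)) x, ?_⟩
    show ∑ j : Fin (n + 1), _ = _
    rw [Finset.sum_eq_single (⟨i, by omega⟩ : Fin (n + 1)) (fun j _ hj => by simp [Pi.single_eq_of_ne hj])
      (fun h => absurd (Finset.mem_univ _) h), Pi.single_eq_same]
  -- upwards
  have hup : ∀ j : ℕ, ∀ x, pullK π x * c (O (c₀ + j)) ∈ (window π n O c₀).range := by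
    intro j
    induction j using Nat.strong_induction_on with
    | _ j ih =>
      intro x
      rcases le_or_gt j n with hj | hj
      · exact hbase j hj x
      have h := hK (c₀ + j) x
      rw [Finset.sum_range_succ'] at h
      simp only [pow_zero, one_smul, B.lam_zero, one_mul, Nat.cast_zero, sub_zero] at h
      rw [eq_neg_of_add_eq_zero_right h]
      refine neg_mem (sum_mem fun i hi => zsmul_mem ?_ _)
      have hi' := Finset.mem_range.1 hi
      rw [show c₀ + (j : ℤ) - ((i + 1 : ℕ) : ℤ) = c₀ + ((j - (i + 1) : ℕ) : ℤ) by omega]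
      exact ih _ (by omega) _
  -- downwards
  have hdown : ∀ j : ℕ, ∀ x, pullK π x * c (O (c₀ + n - j)) ∈ (window π n O c₀).range := by
    intro j
    induction j using Nat.strong_induction_on with
    | _ j ih =>
      intro x
      rcases le_or_gt j n with hj | hj
      · rw [show c₀ + n - (j : ℤ) = c₀ + ((n - j : ℕ) : ℤ) by omega]
        exact hbase _ (by omega) x
      obtain ⟨u, hu⟩ := B.isUnit_lam_top
      have h := hK (c₀ + n - j + (n + 1 : ℕ)) (↑u⁻¹ * x)
      rw [Finset.sum_range_succ, ← hu, ← mul_assoc, Units.mul_inv, one_mul,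
        show c₀ + n - (j : ℤ) + ((n + 1 : ℕ) : ℤ) - ((n + 1 : ℕ) : ℤ) = c₀ + n - j by ring] at h
      have h2 : ((-1 : ℤ) ^ (n + 1)) • (pullK π x * c (O (c₀ + n - j))) ∈ (window π n O c₀).range := by
        rw [eq_neg_of_add_eq_zero_right h]
        refine neg_mem (sum_mem fun i hi => zsmul_mem ?_ _)
        have hi' := Finset.mem_range.1 hi
        rw [show c₀ + n - (j : ℤ) + ((n + 1 : ℕ) : ℤ) - (i : ℤ) = c₀ + n - ((j - (n + 1 - i) : ℕ) : ℤ) by omega]
        exact ih _ (by omega) _
      have h3 := zsmul_mem h2 ((-1 : ℤ) ^ (n + 1))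
      rwa [smul_smul, ← mul_pow, show (-1 : ℤ) * -1 = 1 by norm_num, one_pow, one_smul] at h3
  rcases le_total c₀ a with h | h
  · rw [show a = c₀ + ((a - c₀).toNat : ℤ) by omega]; exact hup _ x
  · rw [show a = c₀ + n - ((c₀ + n - a).toNat : ℤ) by omega]; exact hdown _ x

theorem syzygy {j : ℕ} {F : P.Modules} (hG : Good π n O j F) :
    ∃ (K : P.Modules), FlatMod.IsFinLocFree K ∧ Good π n O (j + 1) (tw O 1 K) ∧
      c F = pullK π (c ((Scheme.Modules.pushforward π).obj F)) - c K ∧ (n ≤ j → c K = 0) := by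
  obtain ⟨hF, hreg, hj⟩ := hG
  let adj := Scheme.Modules.pullbackPushforwardAdjunction π
  let G := (Scheme.Modules.pushforward π).obj F
  have hGf : FlatMod.IsFinLocFree G := B.pushFlf F hF hreg
  have hPG := KFlatLib.isFinLocFree_pullback π hGf
  haveI := B.gen F hF hreg
  let ε : (Scheme.Modules.pullback π).obj G ⟶ F := adj.counit.app F
  haveI : Epi ε := B.gen F hF hreg
  let S := KZ.kerSeq ε
  have hS : S.ShortExact := KZ.kerSeq_shortExact ε
  have hK : FlatMod.IsFinLocFree S.X₁ := flf_ker hS hPG hF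
  haveI := B.unit G hGf
  have htri : adj.unit.app G ≫ (Scheme.Modules.pushforward π).map ε = 𝟙 _ := adj.right_triangle_components F
  haveI hiso : IsIso ((Scheme.Modules.pushforward π).map ε) := by
    rw [show (Scheme.Modules.pushforward π).map ε = CategoryTheory.inv (adj.unit.app G) from IsIso.eq_inv_of_hom_inv_id htri]
    infer_instance
  have hvanG : ∀ i : ℕ, Van π (i + 1) (tw O (-(i : ℤ)) ((Scheme.Modules.pullback π).obj G)) := fun i => by
    by_cases hi : i ≤ n
    · exact B.van G hGf _ (by omega) i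
    · exact B.above _ (QCoh.isQCoh_of_isFinLocFree (B.flf_tw hPG _)) i (by omega)
  have hregK : Reg π O (tw O 1 S.X₁) := by
    intro i hi
    obtain ⟨k, rfl⟩ := Nat.exists_eq_add_of_le' hi
    obtain ⟨e⟩ := B.nonempty_tw_tw (a := -((k + 1 : ℕ) : ℤ)) (b := 1) (d := -(k : ℤ)) (by push_cast; ring) S.X₁
    refine van_iso π e.symm ?_
    rcases Nat.eq_zero_or_pos k with rfl | hk
    · obtain ⟨e₁⟩ := B.nonempty_tw_zero S.X₁
      obtain ⟨e₂⟩ := B.nonempty_tw_zero S.X₂
      have h := hvanG 0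
      simp only [Nat.cast_zero, neg_zero] at h ⊢
      exact van_iso π e₁.symm (van_X₁_of_epi π hS (van_iso π e₂ h)
        (inferInstanceAs (Epi ((Scheme.Modules.pushforward π).map ε))))
    · obtain ⟨S', hS', a₁, a₂, a₃⟩ := B.shortExact_tw hS (-(k : ℤ))
      have h := van_X₁_of_van π hS' (i := k) (by rw [a₂]; exact hvanG k) (by rw [a₃]; exact hreg k hk)
      rwa [a₁] at h
  have hlow : ∀ i, i ≤ j → i ≤ n → Van π i (tw O (-(i : ℤ)) S.X₁) := by
    intro i hij hin
    cases i with
    | zero =>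
      obtain ⟨e₁⟩ := B.nonempty_tw_zero S.X₁
      simp only [Nat.cast_zero, neg_zero]
      refine van_iso π e₁.symm ((van_zero_iff π _).2 ?_)
      haveI : HasInjectiveResolutions P.Modules := KFlatLib.hasInjectiveResolutions_modules
      haveI : PreservesFiniteLimits (Scheme.Modules.pushforward π) := QCoh.preservesFiniteLimits_push π
      haveI : (Scheme.Modules.pushforward π).Additive := Functor.additive_of_preserves_binary_products _
      have hz : (Scheme.Modules.pushforward π).map (kernel.ι ε) ≫ (Scheme.Modules.pushforward π).map ε = 0 := by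
        rw [← Functor.map_comp, kernel.condition, Functor.map_zero]
      have h0 : (Scheme.Modules.pushforward π).map (kernel.ι ε) = 0 := by
        rw [← cancel_mono ((Scheme.Modules.pushforward π).map ε), hz, zero_comp]
      haveI : Mono ((Scheme.Modules.pushforward π).map (kernel.ι ε)) := inferInstance
      exact IsZero.of_mono_eq_zero _ h0
    | succ i =>
      obtain ⟨S', hS', a₁, a₂, a₃⟩ := B.shortExact_tw hS (-((i + 1 : ℕ) : ℤ))
      have h := van_X₁_of_van π hS' (i := i)
        (by rw [a₂]; exact B.van G hGf _ (by omega) i) (by rw [a₃]; exact hj i (by omega) (by omega))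
      rwa [a₁] at h
  refine ⟨S.X₁, hK, ⟨B.flf_tw hK 1, hregK, fun i hi hin => ?_⟩, ?_, fun hnj => ?_⟩
  · obtain ⟨e⟩ := B.nonempty_tw_tw (a := -((i + 1 : ℕ) : ℤ)) (b := 1) (d := -(i : ℤ)) (by push_cast; ring) S.X₁
    exact van_iso π e.symm (hlow i (by omega) (by omega))
  · rw [pullK_c π hGf]
    exact (eq_sub_iff_add_eq'.2 (KZ.clSub_ses (fun M : P.Modules => FlatMod.IsFinLocFree M) hS hK hPG hF).symm)
  · refine KZ.clSub_isZero _ ?_
    have hK0 : IsZero ((Scheme.Modules.pushforward π).obj S.X₁) := by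
      obtain ⟨e₁⟩ := B.nonempty_tw_zero S.X₁
      have h := hlow 0 (Nat.zero_le _) (Nat.zero_le _)
      simp only [Nat.cast_zero, neg_zero] at h
      exact (van_zero_iff π _).1 (van_iso π e₁ h)
    have hregK' : Reg π O S.X₁ := fun i hi => by
      by_cases hin : i ≤ n
      · exact hlow i (by omega) hin
      · obtain ⟨k, rfl⟩ := Nat.exists_eq_add_of_le' hi
        exact B.above _ (QCoh.isQCoh_of_isFinLocFree (B.flf_tw hK _)) k (by omega)
    haveI := B.gen S.X₁ hK hregK'
    haveI : (Scheme.Modules.pullback π).Additive := Functor.additive_of_preserves_binary_products _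
    exact IsZero.of_epi (adj.counit.app S.X₁) ((Scheme.Modules.pullback π).map_isZero hK0)

theorem mem_range_of_good (c₀ : ℤ) : ∀ (m j : ℕ), n ≤ j + m → ∀ F, Good π n O j F → ∀ a : ℤ,
    c (O a) * c F ∈ (window π n O c₀).range := by
  intro m
  induction m with
  | zero =>
    intro j hj F hF a
    obtain ⟨K, hK, -, hc, h0⟩ := B.syzygy hF
    rw [hc, h0 (by omega), sub_zero, mul_comm]
    exact B.mem_range_window c₀ a _
  | succ m ih =>
    intro j hj F hF a
    obtain ⟨K, hK, hgood, hc, -⟩ := B.syzygy hF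
    have h := ih (j + 1) (by omega) _ hgood (a - 1)
    rw [B.c_tw hK, ← mul_assoc, B.c_add, sub_add_cancel] at h
    rw [hc, mul_sub, mul_comm (c (O a)) (pullK π _)]
    exact sub_mem (B.mem_range_window c₀ a _) h

theorem surjective_window (c₀ : ℤ) : Function.Surjective (window π n O c₀) := by
  refine AddMonoidHom.range_eq_top.1 (eq_top_iff.2 fun x _ => ?_)
  have h : (QuotientAddGroup.mk' (window π n O c₀).range) = 0 := KZ.K0sub_hom_ext _ fun F hF => by
    refine (QuotientAddGroup.eq_zero_iff _).2 ?_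
    show c F ∈ _
    obtain ⟨m, hm⟩ := B.serre F hF
    have hg : Good π n O 0 (tw O m F) := ⟨B.flf_tw hF m, hm m le_rfl, fun i hi => absurd hi (Nat.not_lt_zero i)⟩
    have h := B.mem_range_of_good c₀ n 0 (by omega) _ hg (-m)
    rwa [B.c_tw hF, ← mul_assoc, B.c_add, neg_add_cancel, B.c_zero, one_mul] at h
  exact (QuotientAddGroup.eq_zero_iff x).1 (DFunLike.congr_fun h x)

/-- The germ of the direct images of the twists. -/
theorem exists_germ : ∃ ψ : SGA6.Kvb P →+ Germ (atTop : Filter ℤ) (SGA6.Kvb T), ∀ F, FlatMod.IsFinLocFree F →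
    ψ (c F) = germ (fun m : ℤ => c ((Scheme.Modules.pushforward π).obj (tw O m F))) := by
  refine KZ.exists_liftSub (fun M : P.Modules => FlatMod.IsFinLocFree M)
    (fun F => germ (fun m : ℤ => c ((Scheme.Modules.pushforward π).obj (tw O m F))))
    fun S hS h₁ h₂ h₃ => ?_
  rw [germ, germ, germ, ← Germ.coe_add, Germ.coe_eq]
  obtain ⟨m₁, hm₁⟩ := B.serre _ h₁
  obtain ⟨m₂, hm₂⟩ := B.serre _ h₂
  obtain ⟨m₃, hm₃⟩ := B.serre _ h₃
  filter_upwards [eventually_ge_atTop m₁, eventually_ge_atTop m₂, eventually_ge_atTop m₃] with m e₁ e₂ e₃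
  have hv : Van π 1 (tw O m S.X₁) := by
    obtain ⟨e⟩ := B.nonempty_tw_tw (a := -((1 : ℕ) : ℤ)) (b := m + 1) (d := m) (by push_cast; ring) S.X₁
    exact van_iso π e (hm₁ (m + 1) (by omega) 1 le_rfl)
  obtain ⟨S', hS', a₁, a₂, a₃⟩ := B.shortExact_tw hS m
  have f₁ : FlatMod.IsFinLocFree ((Scheme.Modules.pushforward π).obj S'.X₁) := by
    rw [a₁]; exact B.pushFlf _ (B.flf_tw h₁ m) (hm₁ m e₁)
  have f₂ : FlatMod.IsFinLocFree ((Scheme.Modules.pushforward π).obj S'.X₂) := by
    rw [a₂]; exact B.pushFlf _ (B.flf_tw h₂ m) (hm₂ m e₂)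
  have f₃ : FlatMod.IsFinLocFree ((Scheme.Modules.pushforward π).obj S'.X₃) := by
    rw [a₃]; exact B.pushFlf _ (B.flf_tw h₃ m) (hm₃ m e₃)
  have h := KZ.clSub_ses (fun M : T.Modules => FlatMod.IsFinLocFree M)
    (shortExact_push π hS' (by rw [a₁]; exact hv)) f₁ f₂ f₃
  simp only [ShortComplex.map_X₁, ShortComplex.map_X₂, ShortComplex.map_X₃] at h
  rw [a₁, a₂, a₃] at h
  exact h

theorem eventually_sum_A {ι : Type} [Fintype ι] (x : ι → SGA6.Kvb T) (b : ι → ℤ)
    (h : ∑ i, pullK π (x i) * c (O (b i)) = 0) : ∀ᶠ m in (atTop : Filter ℤ), ∑ i, B.A (m + b i) (x i) = 0 := by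
  obtain ⟨ψ, hψ⟩ := B.exists_germ
  have hterm : ∀ (x : SGA6.Kvb T) (b : ℤ),
      ψ (pullK π x * c (O b)) = germ (fun m : ℤ => B.A (m + b) x) := by
    intro x b
    let r : SGA6.Kvb T →+ Germ (atTop : Filter ℤ) (SGA6.Kvb T) :=
      AddMonoidHom.mk' (fun x => germ (fun m : ℤ => B.A (m + b) x)) fun x y => by
        rw [← Germ.coe_add]; congr 1; funext m; exact map_add _ x y
    refine DFunLike.congr_fun (KZ.K0sub_hom_ext _
      (f := ψ.comp ((AddMonoidHom.mulRight (c (O b))).comp (pullK π).toAddMonoidHom)) (g := r) fun N hN => ?_) x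
    show ψ (pullK π (c N) * c (O b)) = _
    have hPN := KFlatLib.isFinLocFree_pullback π hN
    rw [pullK_c π hN, ← c_tensor hPN (B.flfO b), hψ _ (ExtPow7.Lam.flf_tensor hPN (B.flfO b))]
    refine Germ.coe_eq.2 ?_
    filter_upwards [eventually_ge_atTop (-b)] with m hm
    show _ = B.A (m + b) (c N)
    rw [B.A_c (by omega) hN]
    refine (ExtPow7.Lam.c_iso ((Scheme.Modules.pushforward π).mapIso (H23.PicMul.cl_eq_iff.1 ?_).some)
      (B.flf_push_pullback hN (by omega))).symm
    show PicF.cl (CohB1.tensorMod _ _) = PicF.cl (CohB1.tensorMod _ (CohB1.tensorMod _ _))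
    simp only [H23.PicMul.cl_tensor]
    rw [← B.add m b]
    ac_rfl
  have h0 := congrArg ψ h
  rw [map_sum, map_zero] at h0
  simp only [hterm] at h0
  have hcoe : ∀ s : Finset ι, ∑ i ∈ s, (↑(fun m : ℤ => B.A (m + b i) (x i)) : Germ (atTop : Filter ℤ) (SGA6.Kvb T)) =
      ↑(fun m : ℤ => ∑ i ∈ s, B.A (m + b i) (x i)) := fun s => by
    classical
    induction s using Finset.induction with
    | empty => simp [Pi.zero_def]; rfl
    | insert a s ha ih =>
      rw [Finset.sum_insert ha, ih, ← Germ.coe_add]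
      congr 1
      funext m
      rw [Finset.sum_insert ha]
      rfl
  rw [hcoe, ← Germ.coe_zero, Germ.coe_eq] at h0
  exact h0

theorem A_mul {b : ℤ} (hb : -(n : ℤ) ≤ b) (x y : SGA6.Kvb T) : B.A b (y * x) = y * B.A b x := by
  refine DFunLike.congr_fun (DFunLike.congr_fun (KZ.K0sub_hom_ext _
    (f := (AddMonoidHom.compHom (B.A b)).comp AddMonoidHom.mul)
    (g := (AddMonoidHom.compHom.flip (B.A b)).comp AddMonoidHom.mul) fun M hM =>
    KZ.K0sub_hom_ext _ fun N hN => ?_) y) x
  show B.A b (c M * c N) = c M * B.A b (c N)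
  have hMN := ExtPow7.Lam.flf_tensor hM hN
  rw [← c_tensor hM hN, B.A_c hb hMN, B.A_c hb hN, ← c_tensor hM (B.flf_push_pullback hN hb)]
  haveI : HasInjectiveResolutions P.Modules := KFlatLib.hasInjectiveResolutions_modules
  haveI := SpObjSS.enoughInjectives_of_hasInjectiveResolutions (C := P.Modules)
  haveI := QCoh.preservesFiniteLimits_push π
  let F := tw O b ((Scheme.Modules.pullback π).obj N)
  obtain ⟨e⟩ := KFlatLib.nonempty_rpush_tensor_finLocFree π F M hM 0
  let z := (Scheme.Modules.pushforward π).rightDerivedZeroIsoSelf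
  obtain ⟨d⟩ : Nonempty (tw O b ((Scheme.Modules.pullback π).obj (((DCoh.tensorBi (X := T)).obj M).obj N)) ≅
      CohB1.tensorMod ((Scheme.Modules.pullback π).obj M) F) := H23.PicMul.cl_eq_iff.1 (by
    show PicF.cl (CohB1.tensorMod _ ((Scheme.Modules.pullback π).obj (CohB1.tensorMod _ _))) =
      PicF.cl (CohB1.tensorMod _ (CohB1.tensorMod _ _))
    simp only [H23.PicMul.cl_tensor]
    rw [H23.PicMul.cl_eq_iff.2 (H23.PicMul.pull π M N), H23.PicMul.cl_tensor]
    ac_rfl)
  exact ExtPow7.Lam.c_iso ((Scheme.Modules.pushforward π).mapIso d ≪≫ (z.app _).symm ≪≫ e.symm ≪≫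
    ((DCoh.tensorBi (X := T)).obj M).mapIso (z.app F)) (B.flf_push_pullback hMN hb)

theorem injective_window_low : Function.Injective (window π n O (-(n : ℤ))) := by
  refine (injective_iff_map_eq_zero _).2 fun x hx => ?_
  let s : ℤ → SGA6.Kvb T := fun b => B.A b 1
  have hAs : ∀ {b : ℤ}, -(n : ℤ) ≤ b → ∀ y, B.A b y = y * s b := fun {b} hb y => by
    have h := B.A_mul hb 1 y
    rwa [mul_one] at h
  let f : ℤ → SGA6.Kvb T := fun a => ∑ i : Fin (n + 1), x i * s (a + (-(n : ℤ) + (i : ℕ)))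
  have hev : ∀ᶠ a in (atTop : Filter ℤ), f a = 0 := by
    filter_upwards [B.eventually_sum_A x _ hx, eventually_ge_atTop 0] with a ha ha0
    rw [← ha]
    exact Finset.sum_congr rfl fun i _ => (hAs (by omega) _).symm
  obtain ⟨a₁, ha₁⟩ := eventually_atTop.1 hev
  obtain ⟨u, hu⟩ := B.isUnit_lam_top
  have hrec : ∀ a : ℤ, 0 ≤ a →
      ∑ k ∈ Finset.range (n + 2), ((-1 : ℤ) ^ k) • (B.lam k * f (a + (n + 1 : ℕ) - (k : ℤ))) = 0 := by
    intro a ha
    simp only [f, Finset.mul_sum, Finset.smul_sum]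
    rw [Finset.sum_comm]
    refine Finset.sum_eq_zero fun i _ => ?_
    let a' : ℤ := a + (n + 1 : ℕ) + (-(n : ℤ) + (i : ℕ))
    have h := B.A_rec (a := a') (by simp only [a']; push_cast; omega) 1
    have h2 := congrArg (x i * ·) h
    simp only [Finset.mul_sum, mul_zero] at h2
    rw [← h2]
    refine Finset.sum_congr rfl fun k hk => ?_
    have hk' := Finset.mem_range.1 hk
    rw [mul_one, hAs (by simp only [a']; push_cast; omega) (B.lam k), mul_smul_comm,
      show a + ((n + 1 : ℕ) : ℤ) - (k : ℤ) + (-(n : ℤ) + (i : ℕ)) = a' - (k : ℤ) by simp only [a']; ring]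
    congr 1
    ring
  have hzero : ∀ d : ℕ, ∀ a : ℤ, 0 ≤ a → a₁ ≤ a + d → f a = 0 := by
    intro d
    induction d with
    | zero => exact fun a _ h => ha₁ a (by simpa using h)
    | succ d ih =>
      intro a ha h
      have h1 := hrec a ha
      rw [Finset.sum_range_succ, Finset.sum_eq_zero fun k hk => ?_, zero_add, add_sub_cancel_right, ← hu] at h1
      · have h2 := congrArg (((-1 : ℤ) ^ (n + 1)) • ·) h1
        simp only [smul_smul, ← mul_pow, neg_mul_neg, one_mul, one_pow, one_smul, smul_zero] at h2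
        exact u.mul_right_eq_zero.1 h2
      · have hk' := Finset.mem_range.1 hk
        rw [ih _ (by omega) (by omega), mul_zero, smul_zero]
  -- read off the coordinates
  funext i₀
  suffices ∀ j : ℕ, ∀ i : Fin (n + 1), n - (i : ℕ) = j → x i = 0 from this _ i₀ rfl
  intro j
  induction j using Nat.strong_induction_on with
  | _ j ih =>
    intro i hi
    have h := hzero (a₁ - (j : ℤ)).toNat (j : ℤ) (by omega) (by omega)
    simp only [f] at h
    rw [Finset.sum_eq_single i (fun k _ hk => ?_) (fun hm => absurd (Finset.mem_univ _) hm),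
      show (j : ℤ) + (-(n : ℤ) + (i : ℕ)) = 0 by omega] at h
    · change x i * B.A 0 1 = 0 at h
      rwa [B.A_zero, mul_one] at h
    · rcases lt_or_gt_of_ne (fun e : (k : ℕ) = i => hk (Fin.ext e)) with hlt | hgt
      · show x k * B.A _ 1 = 0
        rw [B.A_low (by omega) (by omega), mul_zero]
      · rw [ih (n - k) (by omega) k rfl, zero_mul]

/-- `K₀(P)` is free over `K₀(T)` on any window of twists. -/
theorem bijective_window (c₀ : ℤ) : Function.Bijective (window π n O c₀) := by
  refine ⟨fun x y h => B.injective_window_low ?_, B.surjective_window c₀⟩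
  have e : ∀ z, window π n O (-(n : ℤ)) z = c (O (-(n : ℤ) - c₀)) * window π n O c₀ z := fun z => by
    show ∑ i : Fin (n + 1), _ = _ * ∑ i : Fin (n + 1), _
    rw [Finset.mul_sum]
    refine Finset.sum_congr rfl fun i _ => ?_
    rw [mul_left_comm, B.c_add, show -(n : ℤ) - c₀ + (c₀ + (i : ℕ)) = -(n : ℤ) + (i : ℕ) by ring]
  rw [e, e, h]

end Bd

end Groth.Agent.KPE7
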