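import Groth.Agent.KPE7.Flf
import Groth.Agent.KPE7.Seq
import Groth.Agent.KZ.Basic
import Groth.Agent.KRR7.Deg
import Groth.Agent.SlopeBound.Basic

/-!
# Direct images of `O(d) ⊗ p^*G` on `P^n_Y` for `-n ≤ d < 0`, and the unit `G ⟶ p_*p^*G`
-/

set_option autoImplicit false
set_option linter.style.haveILetI false
set_option backward.isDefEq.respectTransparency false

universe u
open CategoryTheory CategoryTheory.Limits AlgebraicGeometry TopologicalSpace Opposite
attribute [local instance] HasDerivedCategory.standard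

namespace Groth.Agent.KPE7

open Groth.Agent
open scoped Groth.Agent.H23.PicMul

variable {n : ℕ} {Y : Scheme.{u}}

theorem isZero_push_twistProjSpace (d : ℤ) (hd₁ : -(n : ℤ) ≤ d) (hd : d < 0) :
    IsZero ((Scheme.Modules.pushforward (CohB1.ProjSpace.toSpec n (ULift.{u} ℤ))).obj
      (Twist.twistProjSpace n (ULift.{u} ℤ) d)) := by
  let R := ULift.{u} ℤ
  let π := CohB1.ProjSpace.toSpec n R
  haveI : IsProper π := PnCoh.Chow.isProper_toSpec n R
  let L := Twist.twistProjSpace n R d
  haveI hs : Subsingleton (Coh.HH (CohB1.ProjSpace n R) L 0) :=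
    Groth.Agent.S0844.result R n d 0 (fun h => by omega) (fun h => by have := h.1; omega)
  haveI : Subsingleton Γ(L, ⊤) := (Sheaf.H.equiv₀ (Coh.toAb L) isTerminalTop).symm.toEquiv.subsingleton
  have hq : Coh.IsQCoh L := ProjUPX.isQCoh_of_isInvertible
    (PnCoh.Finite.isInvertible_twist ((ProjGen7.coord' n R)) (ProjGen7.coord'_mem n R) (ProjGen7.iSup_coord' n R) d)
  refine QCoh.isZero_of_cover (QCoh.isQCoh_pushforward π hq) (fun _ : PUnit.{u + 1} => (⊤ : (Spec (CommRingCat.of R)).Opens))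
    (fun _ => isAffineOpen_top _) (fun x => ⟨PUnit.unit, trivial⟩) (fun _ => ?_)
  exact inferInstanceAs (Subsingleton Γ(L, ⊤))

theorem isZero_push_twistOver (d : ℤ) (hd₁ : -(n : ℤ) ≤ d) (hd : d < 0) :
    IsZero ((Scheme.Modules.pushforward (KRR.pr n Y)).obj (Twist.twistOver n Y d)) := by
  let R := ULift.{u} ℤ
  let π := CohB1.ProjSpace.toSpec n R
  let L := Twist.twistProjSpace n R d
  haveI : IsProper π := PnCoh.Chow.isProper_toSpec n R
  haveI : Flat π := ProjGen7.flat_toSpec_int n
  haveI : IsNoetherianRing R := isNoetherianRing_of_ringEquiv ℤ ULift.ringEquiv.symm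
  haveI : LocallyOfFinitePresentation π := ProjGen7.lfp_of_lft _
  haveI : HasInjectiveResolutions (CohB1.ProjSpace n R).Modules := KFlatLib.hasInjectiveResolutions_modules
  have hL : PicF.IsInvertible L :=
    PnCoh.Finite.isInvertible_twist ((ProjGen7.coord' n R)) (ProjGen7.coord'_mem n R) (ProjGen7.iSup_coord' n R) d
  have hf : FlatMod.IsFinLocFree L := H23.PullPush.isFinLocFree_of_isInvertible hL
  have hq := QCoh.isQCoh_of_isFinLocFree hf
  have hex : ∀ y, CohPullLib.ExchAt π L 0 y := fun y => by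
    refine CohPullLib.exchAt_of_isFinLocFree_above hq (QCoh.isFP_of_isFinLocFree hf)
      (PerfLocus7.isFlatOver_of_isFinLocFree π hf) (m := 0) (fun i hi => ?_) y 0 le_rfl
    obtain ⟨k, rfl⟩ := Nat.exists_eq_add_of_le' hi
    exact KFlatLib.isFinLocFree_of_isZero (ProjGen7.isZero_Rpush_succ π hq k
      (Groth.Agent.S0844.result R n d (k + 1) (fun h => Nat.succ_ne_zero k h.1) (fun h => by omega)))
  have hsq : IsPullback (pullback.fst π (specULiftZIsTerminal.from Y)) (KRR.pr n Y) π (specULiftZIsTerminal.from Y) :=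
    IsPullback.of_hasPullback _ _
  haveI := CohPullLib.isIso_bc0_of_exchAt hsq hq (fun z => hex _)
  haveI : (Scheme.Modules.pullback (specULiftZIsTerminal.from Y)).Additive :=
    Functor.additive_of_preserves_binary_products _
  exact ((Scheme.Modules.pullback (specULiftZIsTerminal.from Y)).map_isZero
    (isZero_push_twistProjSpace (n := n) d hd₁ hd)).of_iso
      (asIso (CohBC.bc0 π (specULiftZIsTerminal.from Y) (KRR.pr n Y)
        (pullback.fst π (specULiftZIsTerminal.from Y)) hsq.w L)).symm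

theorem isZero_push_twF_pullback (d : ℤ) (hd₁ : -(n : ℤ) ≤ d) (hd : d < 0) {G : Y.Modules}
    (hG : FlatMod.IsFinLocFree G) :
    IsZero ((Scheme.Modules.pushforward (KRR.pr n Y)).obj
      (KRR.twF n Y d ((Scheme.Modules.pullback (KRR.pr n Y)).obj G))) := by
  obtain ⟨e⟩ := KRR7.nonempty_push_tensor_pull (n := n) (Twist.twistOver n Y d) hG
  exact ((KRR7.isZero_tensorMod G (isZero_push_twistOver d hd₁ hd)).of_iso
    (H23.PicMul.comm _ _).some).of_iso e

theorem isIso_unit {G : Y.Modules} (hG : FlatMod.IsFinLocFree G) :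
    IsIso ((Scheme.Modules.pullbackPushforwardAdjunction (KRR.pr n Y)).unit.app G) := by
  haveI := CMReg7.epi_unit (n := n) (QCoh.isQCoh_of_isFinLocFree hG)
  obtain ⟨t⟩ := KRR7.nonempty_push_twistOver n Y 0
  obtain ⟨o⟩ : Nonempty (Twist.twistOver n Y ((0 : ℕ) : ℤ) ≅ Coh.structureModule (KRR.PY n Y)) :=
    H23.PicMul.cl_eq_iff.1 (by rw [Nat.cast_zero, CMReg7.cl_twistOver_zero, H23.PicMul.one_def])
  obtain ⟨a⟩ := KRR7.nonempty_push_tensor_pull (n := n) (Coh.structureModule (KRR.PY n Y)) hG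
  obtain ⟨b⟩ := H23.PicMul.comm (Coh.structureModule (KRR.PY n Y)) ((Scheme.Modules.pullback (KRR.pr n Y)).obj G)
  obtain ⟨c⟩ := H23.PicMul.unit ((Scheme.Modules.pullback (KRR.pr n Y)).obj G)
  let f : FlatMod.freeMod Y (Nat.choose (n + 0) n) ≅ Coh.structureModule Y := by
    rw [Nat.add_zero, Nat.choose_self]
    exact coproductUniqueIso fun _ : Fin 1 => Coh.structureModule Y
  obtain ⟨d⟩ : Nonempty (CohB1.tensorMod ((Scheme.Modules.pushforward (KRR.pr n Y)).obj
      (Coh.structureModule (KRR.PY n Y))) G ≅ G) :=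
    H23.PicMul.cl_eq_iff.1 (by
      rw [H23.PicMul.cl_tensor, H23.PicMul.cl_eq_iff.2
        ⟨(Scheme.Modules.pushforward (KRR.pr n Y)).mapIso o.symm ≪≫ t ≪≫ f⟩, ← H23.PicMul.one_def, one_mul])
  let j := (Scheme.Modules.pushforward (KRR.pr n Y)).mapIso (b ≪≫ c).symm ≪≫ a ≪≫ d
  let u : G ⟶ G := (Scheme.Modules.pullbackPushforwardAdjunction (KRR.pr n Y)).unit.app G ≫ j.hom
  haveI : Epi u := epi_comp _ _
  suffices IsIso u by
    have h : (Scheme.Modules.pullbackPushforwardAdjunction (KRR.pr n Y)).unit.app G = u ≫ j.inv := by simp [u]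
    rw [h]
    exact IsIso.comp_isIso' this inferInstance
  let S := KZ.kerSeq u
  have hS : S.ShortExact := KZ.kerSeq_shortExact u
  have hK : FlatMod.IsFinLocFree S.X₁ := flf_ker hS hG hG
  have hz : IsZero S.X₁ := QCoh.isZero_of_app_eq_zero (QCoh.isQCoh_of_isFinLocFree hK) fun U x => by
    obtain ⟨hfin, -⟩ := sections_of_flf hG U
    have hinj : Function.Injective (appL u U.1) := OrzechProperty.injective_of_surjective_endomorphism _
      (QCoh.app_surjective_of_shortExact hS (QCoh.isQCoh_of_isFinLocFree hK) U.2)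
    refine QCoh.app_f_injective hS U.1 ?_
    rw [map_zero]
    refine hinj ?_
    rw [map_zero]
    exact QCoh.app_g_f (S := S) U.1 x
  exact hS.isIso_g_iff.2 hz

end Groth.Agent.KPE7
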