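import Groth.Agent.KPE7.Flf
import Groth.Agent.KPE7.Seq
import Groth.Agent.CMReg7.PullVanish
import Groth.Agent.KFlatLib.Perfect.Tensor
import Groth.Agent.S0844

/-!
# Serre vanishing for bundles on `P^n_T`, over any quasi-compact base
-/

set_option autoImplicit false
set_option linter.style.haveILetI false
set_option backward.isDefEq.respectTransparency false
set_option maxHeartbeats 800000
universe u
open CategoryTheory CategoryTheory.Limits AlgebraicGeometry TopologicalSpace Opposite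
attribute [local instance] HasDerivedCategory.standard
attribute [local instance] Abelian.hasFiniteBiproducts

namespace Groth.Agent.KPE7

open Groth.Agent
open Groth.Agent.PnCoh Groth.Agent.PnCoh.Finite
open scoped Groth.Agent.H23.PicMul

section proj

variable {R A : Type u} [CommRing R] [CommRing A] [Algebra R A]
  {𝒜 : ℕ → Submodule R A} [GradedAlgebra 𝒜] {κ : Type u} {f : κ → A}

/-- A bundle on `Proj` is a quotient of a finite sum of twists, with a bundle kernel. -/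
theorem exists_presentation_flf [Finite κ] (hf : ∀ i, f i ∈ 𝒜 1) (hcov : ⨆ j, D 𝒜 (f j) = ⊤)
    {F : (Proj 𝒜).Modules} (hF : FlatMod.IsFinLocFree F) :
    ∃ (ι : Type u) (_ : Fintype ι) (d : ι → ℤ) (S : ShortComplex (Proj 𝒜).Modules)
      (p : ∀ a, S.X₂ ⟶ Twist.twist 𝒜 (d a)) (q : ∀ a, Twist.twist 𝒜 (d a) ⟶ S.X₂),
      S.ShortExact ∧ S.X₃ = F ∧ FlatMod.IsFinLocFree S.X₁ ∧ ∑ a, p a ≫ q a = 𝟙 S.X₂ := by
  classical
  haveI := Fintype.ofFinite κ
  have hq := QCoh.isQCoh_of_isFinLocFree hF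
  choose m w hw using fun j => (haveI := (KPE7.sections_of_flf hF ⟨_, isAffineOpen_D hf j⟩).1;
    Module.Finite.exists_fin (R := Γ(Proj 𝒜, D 𝒜 (f j))) (M := Γ(F, D 𝒜 (f j))))
  have hfam : ∀ j (a : Fin (m j)), ∃ (k : ℕ) (ψ : Twist.twist 𝒜 (-(k : ℤ)) ⟶ F),
      ∃ τ, ψ.app (D 𝒜 (f j)) τ = w j a := fun j a => by
    obtain ⟨k, t, hti, hcompat⟩ := exists_family hf hq (isAffineOpen_D hf) (isAffineOpen_D₂ hf) j (w j a)
    exact ⟨k, homOfFamily hf k t hcompat hcov, hti ▸ mem_range_homOfFamily hf k t hcompat hcov j⟩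
  choose k ψ τ hτ using hfam
  let T : (Σ j, Fin (m j)) → (Proj 𝒜).Modules := fun b => Twist.twist 𝒜 (-(k b.1 b.2 : ℤ))
  let φ : (⨁ T) ⟶ F := biproduct.desc fun b => ψ b.1 b.2
  haveI : Epi φ := epi_desc hf hcov hq T (fun b => ψ b.1 b.2) fun j =>
    le_antisymm le_top ((hw j).ge.trans (Submodule.span_mono (by
      rintro _ ⟨a, rfl⟩
      exact ⟨⟨j, a⟩, τ j a, hτ j a⟩)))
  let S : ShortComplex (Proj 𝒜).Modules := ShortComplex.mk (kernel.ι φ) φ (kernel.condition φ)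
  have hS : S.ShortExact := { exact := ShortComplex.exact_of_f_is_kernel _ (kernelIsKernel φ) }
  exact ⟨Σ j, Fin (m j), inferInstance, fun b => -(k b.1 b.2 : ℤ), S, biproduct.π T,
    biproduct.ι T, hS, rfl, KPE7.flf_ker hS (KPE7.flf_biproduct T fun b =>
      H23.PullPush.isFinLocFree_of_isInvertible (isInvertible_twist f hf hcov _)) hF, biproduct_total T⟩

theorem flf_twistF (hf : ∀ i, f i ∈ 𝒜 1) (hcov : ⨆ j, D 𝒜 (f j) = ⊤) {F : (Proj 𝒜).Modules}
    (hF : FlatMod.IsFinLocFree F) (d : ℤ) : FlatMod.IsFinLocFree ((twistF d).obj F) :=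
  KFlatLib.isFinLocFree_tensor hF (H23.PullPush.isFinLocFree_of_isInvertible (isInvertible_twist f hf hcov d))

/-- Serre vanishing for bundles by descending induction. -/
theorem exists_vanishing_flf [Finite κ] (hf : ∀ i, f i ∈ 𝒜 1) (hcov : ⨆ j, D 𝒜 (f j) = ⊤)
    (N : ℕ) (hvan : ∀ M : (Proj 𝒜).Modules, Coh.IsQCoh M → ∀ i, N ≤ i →
      Subsingleton (Coh.HH (Proj 𝒜) M i))
    (htw : ∀ i, 0 < i → ∃ d₀ : ℤ, ∀ d, d₀ ≤ d →
      Subsingleton (Coh.HH (Proj 𝒜) (Twist.twist 𝒜 d) i))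
    (F : (Proj 𝒜).Modules) (hF : FlatMod.IsFinLocFree F) :
    ∃ d₀ : ℤ, ∀ d, d₀ ≤ d → ∀ i, 0 < i → Subsingleton (Coh.HH (Proj 𝒜) ((twistF d).obj F) i) := by
  suffices ∀ m i, 0 < i → N ≤ i + m → ∀ F : (Proj 𝒜).Modules, FlatMod.IsFinLocFree F → ∃ d₀ : ℤ, ∀ d, d₀ ≤ d →
      Subsingleton (Coh.HH (Proj 𝒜) ((twistF d).obj F) i) by
    choose d₀ hd₀ using fun i : Fin N => this N (i.val + 1) (Nat.succ_pos _) (by omega) F hF
    refine ⟨∑ j, |d₀ j|, fun d hd i hi => ?_⟩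
    rcases le_or_gt N i with hN | hN
    · exact hvan _ (QCoh.isQCoh_of_isFinLocFree (flf_twistF hf hcov hF d)) i hN
    · obtain ⟨j, rfl⟩ := Nat.exists_eq_add_of_le' hi
      refine hd₀ ⟨j, by omega⟩ d ?_
      have h1 := Finset.single_le_sum (f := fun b => |d₀ b|) (fun b _ => abs_nonneg _)
        (Finset.mem_univ (⟨j, by omega⟩ : Fin N))
      exact (le_abs_self _).trans (h1.trans hd)
  intro m
  induction m with
  | zero => exact fun i _ hi F hF =>
      ⟨0, fun d _ => hvan _ (QCoh.isQCoh_of_isFinLocFree (flf_twistF hf hcov hF d)) i hi⟩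
  | succ m ih =>
    intro i hi hN F hF
    obtain ⟨ι, _, e, S, p, q, hS, rfl, hK, hpq⟩ := exists_presentation_flf hf hcov hF
    obtain ⟨d₁, hd₁⟩ := ih (i + 1) (Nat.succ_pos _) (by omega) S.X₁ hK
    obtain ⟨e₀, he₀⟩ := htw i hi
    refine ⟨max d₁ (e₀ + ∑ a, |e a|), fun d hd => ?_⟩
    have hd1 : d₁ ≤ d := le_trans (le_max_left _ _) hd
    have hd2 : e₀ + ∑ a, |e a| ≤ d := le_trans (le_max_right _ _) hd
    obtain ⟨p', q', h'⟩ := exists_twisted_decomposition hf hcov e p q hpq d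
    refine subsingleton_HH_X₃ (shortExact_twistBy f hf hcov d hS) i
      (subsingleton_HH_of_decomposition (fun a => Twist.twist 𝒜 (e a + d)) p' q' h' i
        fun a => he₀ _ ?_) (hd₁ d hd1)
    have h1 : |e a| ≤ ∑ b, |e b| :=
      Finset.single_le_sum (f := fun b => |e b|) (fun b _ => abs_nonneg _) (Finset.mem_univ a)
    have h2 := neg_abs_le (e a)
    omega

end proj

/-- Serre vanishing on `P^n_A`. -/
theorem exists_vanishing_projSpace (n : ℕ) (A : Type u) [CommRing A] (F : (CohB1.ProjSpace n A).Modules)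
    (hF : FlatMod.IsFinLocFree F) :
    ∃ d₀ : ℤ, ∀ d, d₀ ≤ d → ∀ i, 0 < i →
      Subsingleton (Coh.HH (CohB1.ProjSpace n A) (CohB1.tensorMod F (Twist.twistProjSpace n A d)) i) := by
  let g := ProjGen7.coord' n A
  have hg : ∀ j, g j ∈ CohB1.polyGrading n A 1 := ProjGen7.coord'_mem n A
  have hcov := ProjGen7.iSup_coord' n A
  let π := CohB1.ProjSpace.toSpec n A
  haveI : IsProper π := PnCoh.Chow.isProper_toSpec n _
  haveI : (CohB1.ProjSpace n A).IsSeparated := ⟨by rw [← terminal.comp_from π]; infer_instance⟩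
  refine exists_vanishing_flf (𝒜 := CohB1.polyGrading n A) hg hcov (n + 1) (fun M hM i hi => ?_)
    (fun i hi => ⟨-(n : ℤ), fun d hd => Groth.Agent.S0844.result A n d i (fun h => by omega) (fun h => by omega)⟩) F hF
  exact QCoh.HH_subsingleton_of_cover (n + 1)
    (fun j => Proj.basicOpen (CohB1.polyGrading n A) (g ⟨j⟩))
    (fun j => Proj.isAffineOpen_basicOpen _ _ (hg ⟨j⟩) one_pos)
    (eq_top_iff.2 fun y _ => by
      obtain ⟨j, hj⟩ := Opens.mem_iSup.1 (hcov.ge (Set.mem_univ y))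
      exact Opens.mem_iSup.2 ⟨j.down, hj⟩)
    (fun V W hV hW => hV.inf hW) hM i hi

variable (n : ℕ) (T : Scheme.{u})

/-- vanishing over a chart gives vanishing of the sections of `R^{q+1}` -/
theorem subsingleton_HH_restrict_of_chart {M : (KRR.PY n T).Modules} (q : ℕ) (V : T.Opens) (hV : IsAffineOpen V)
    (h : Subsingleton (Coh.HH (CohB1.ProjSpace n Γ(T, V)) ((Scheme.Modules.pullback (ProjX.chart n hV)).obj M) (q + 1))) :
    Subsingleton (Coh.HH _ (M.restrict ((KRR.pr n T) ⁻¹ᵁ V).ι) (q + 1)) := by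
  let p := KRR.pr n T
  let A := Γ(T, V)
  let π := CohB1.ProjSpace.toSpec n A
  let c := ProjX.chart n hV
  let b : Spec A ≅ (V : Scheme.{u}) := hV.isoSpec.symm
  have hb : hV.fromSpec = b.hom ≫ V.ι := rfl
  have h₂ : IsPullback (p ⁻¹ᵁ V).ι (p ∣_ V) p V.ι := (isPullback_morphismRestrict p V).flip
  have h₃ : IsPullback c (π ≫ b.hom) p V.ι :=
    IsPullback.of_iso (ProjX.isPullback_chart n hV) (Iso.refl _) (Iso.refl _) b (Iso.refl _)
      (by simp [c]) (by simp [π]; rfl) (by simp [p]) (by rw [hb]; simp)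
  let e := h₂.isoIsPullback _ _ h₃
  have he : e.hom ≫ c = (p ⁻¹ᵁ V).ι := h₂.isoIsPullback_hom_fst _ _ h₃
  refine QCoh.subsingleton_HH_of_iso (((Scheme.Modules.restrictFunctorIsoPullback e.hom).app _ ≪≫
    (Scheme.Modules.pullbackComp e.hom c).app M ≪≫ (Scheme.Modules.pullbackCongr he).app M ≪≫
    ((Scheme.Modules.restrictFunctorIsoPullback (p ⁻¹ᵁ V).ι).app M).symm)) _ ?_
  refine QCoh.subsingleton_HH_restrict e.hom _ q ?_
  rw [Scheme.Hom.opensRange_of_isIso]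
  exact ProjGen7.subsingleton_HU_top' _ _ h

theorem isZero_RpushAb_of_cover {M : (KRR.PY n T).Modules} (hM : Coh.IsQCoh M) (q : ℕ) {J : Type u}
    (U : J → T.Opens) (hU : ∀ j, IsAffineOpen (U j)) (hcov : ∀ x, ∃ j, x ∈ U j)
    (h : ∀ j, Subsingleton (Coh.HH (CohB1.ProjSpace n Γ(T, U j))
      ((Scheme.Modules.pullback (ProjX.chart n (hU j))).obj M) (q + 1))) :
    Van (KRR.pr n T) (q + 1) M := by
  haveI : IsProper (CohB1.ProjSpace.toSpec n (ULift.{u} ℤ)) := PnCoh.Chow.isProper_toSpec n _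
  haveI : IsProper (KRR.pr n T) := MorphismProperty.pullback_snd _ _ inferInstance
  haveI : HasInjectiveResolutions (KRR.PY n T).Modules := KFlatLib.hasInjectiveResolutions_modules
  obtain ⟨e⟩ := QCoh.nonempty_RpushAb_iso (KRR.pr n T) M q
  obtain ⟨e'⟩ := QCoh.nonempty_Rpush_iso (KRR.pr n T) M q
  refine IsZero.of_iso ((QCoh.toAbFunctor T).map_isZero ?_) (e ≪≫ (QCoh.toAbFunctor T).mapIso e'.symm)
  refine QCoh.isZero_of_cover (QCoh.isQCoh_Rpush (KRR.pr n T) hM (q + 1)) U hU hcov fun j => ?_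
  obtain ⟨a⟩ := QCoh.nonempty_sections_HH (f := KRR.pr n T) hM (hU j) (q + 1)
  haveI := subsingleton_HH_restrict_of_chart n T q (U j) (hU j) (h j)
  exact a.toEquiv.subsingleton

/-- Serre vanishing on `P^n_T`. -/
theorem exists_vanishing_pr [CompactSpace T] (F : (KRR.PY n T).Modules) (hF : FlatMod.IsFinLocFree F) :
    ∃ m₀ : ℤ, ∀ m, m₀ ≤ m → ∀ q : ℕ, Van (KRR.pr n T) (q + 1) (KRR.twF n T m F) := by
  classical
  obtain ⟨s, hs⟩ := CompactSpace.isCompact_univ (X := T) |>.elim_finite_subcover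
    (fun V : T.affineOpens => (V.1 : Set T)) (fun V => V.1.2) fun x _ => by
      obtain ⟨_, ⟨V, hV, rfl⟩, hx, -⟩ := T.isBasis_affineOpens.exists_subset_of_mem_open (Set.mem_univ x) isOpen_univ
      exact Set.mem_iUnion.2 ⟨⟨V, hV⟩, hx⟩
  choose d₀ hd₀ using fun V : T.affineOpens => exists_vanishing_projSpace n Γ(T, V.1)
    ((Scheme.Modules.pullback (ProjX.chart n V.2)).obj F) (KFlatLib.isFinLocFree_pullback _ hF)
  refine ⟨∑ V ∈ s, |d₀ V|, fun m hm q => ?_⟩
  refine isZero_RpushAb_of_cover n T (QCoh.isQCoh_of_isFinLocFree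
      (KFlatLib.isFinLocFree_tensor (H23.PullPush.isFinLocFree_of_isInvertible (RegSheaf7.isInvertible_twistOver _)) hF))
    q (fun V : {V // V ∈ s} => V.1.1) (fun V => V.1.2) (fun x => ?_) fun V => ?_
  · obtain ⟨V, hVs, hx⟩ := Set.mem_iUnion₂.1 (hs (Set.mem_univ x))
    exact ⟨⟨V, hVs⟩, hx⟩
  · obtain ⟨V, hVs⟩ := V
    let A := Γ(T, V.1)
    let c := ProjX.chart n V.2
    obtain ⟨e₁⟩ := H23.PicMul.pull c (Twist.twistOver n T m) F
    obtain ⟨e₂⟩ := CMReg7.nonempty_pullback_twist n (ProjX.zto A) m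
    let eL : (Scheme.Modules.pullback c).obj (Twist.twistOver n T m) ≅ Twist.twistProjSpace n A m :=
      (Scheme.Modules.pullbackComp c _).app _ ≪≫
        (Scheme.Modules.pullbackCongr (ProjX.chart_fst n V.2)).app _ ≪≫ e₂
    obtain ⟨e⟩ : Nonempty (CohB1.tensorMod ((Scheme.Modules.pullback c).obj F) (Twist.twistProjSpace n A m) ≅
        (Scheme.Modules.pullback c).obj (KRR.twF n T m F)) := H23.PicMul.cl_eq_iff.1 (by
      refine Eq.trans ?_ (H23.PicMul.cl_eq_iff.2 ⟨e₁.symm⟩)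
      rw [H23.PicMul.cl_tensor, H23.PicMul.cl_tensor, H23.PicMul.cl_eq_iff.2 ⟨eL⟩, mul_comm])
    refine QCoh.subsingleton_HH_of_iso e _ (hd₀ V m ?_ (q + 1) (Nat.succ_pos q))
    exact (le_abs_self _).trans ((Finset.single_le_sum (f := fun W => |d₀ W|) (fun W _ => abs_nonneg _) hVs).trans hm)

end Groth.Agent.KPE7
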