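import Groth.Agent.KPE7.Main
import Groth.Agent.KPE7.PnLow
import Groth.Agent.KPE7.Serre
import Groth.Agent.CMReg7.Bundle
import Groth.Agent.RGLib.YBlow

/-!
# `P^n_T` as an abstract projective bundle
-/

set_option autoImplicit false
set_option linter.style.haveILetI false
set_option backward.isDefEq.respectTransparency false
universe u
open CategoryTheory CategoryTheory.Limits AlgebraicGeometry
attribute [local instance] HasDerivedCategory.standard

namespace Groth.Agent.KPE7

open Groth.Agent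
open scoped Groth.Agent.H23.PicMul

/-- A map out of a sum hitting `L` by sections with covering generating loci is an epimorphism. -/
theorem epi_of_genLocus {X : Scheme.{u}} {L M : X.Modules} {J : Type*} (φ : M ⟶ L) (ι : J → (Coh.structureModule X ⟶ M))
    (h : ∀ x : X, ∃ j, x ∈ CohB1.genLocus L (ι j ≫ φ)) : Epi φ := by
  refine Preadditive.epi_of_isZero_cokernel φ ?_
  haveI : IsIso (0 : cokernel φ ⟶ cokernel φ) := by
    refine RGLib.YBlow.isIso_of_restrict_cover _ fun x => ?_
    obtain ⟨j, hj⟩ := h x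
    obtain ⟨U, hU, hx⟩ : ∃ U : X.Opens, IsIso ((Scheme.Modules.restrictFunctor U.ι).map (ι j ≫ φ)) ∧ x ∈ U :=
      TopologicalSpace.Opens.mem_sSup.1 hj
    refine ⟨U, hx, ?_⟩
    haveI : IsIso ((Scheme.Modules.restrictFunctor U.ι).map (ι j ≫ φ)) := hU
    haveI : (Scheme.Modules.restrictFunctor U.ι).PreservesZeroMorphisms := inferInstance
    haveI : PreservesColimitsOfSize.{0, 0} (Scheme.Modules.restrictFunctor U.ι) :=
      (Scheme.Modules.restrictAdjunction U.ι).leftAdjoint_preservesColimits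
    haveI : Epi ((Scheme.Modules.restrictFunctor U.ι).map φ) := by
      haveI : Epi ((Scheme.Modules.restrictFunctor U.ι).map (ι j) ≫ (Scheme.Modules.restrictFunctor U.ι).map φ) := by
        rw [← Functor.map_comp]; infer_instance
      exact epi_of_epi ((Scheme.Modules.restrictFunctor U.ι).map (ι j)) _
    have hz : IsZero ((Scheme.Modules.restrictFunctor U.ι).obj (cokernel φ)) :=
      (isZero_cokernel_of_epi _).of_iso (PreservesCokernel.iso (Scheme.Modules.restrictFunctor U.ι) φ)
    exact ⟨⟨0, hz.eq_of_src _ _, hz.eq_of_src _ _⟩⟩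
  refine (IsZero.iff_id_eq_zero _).2 ?_
  rw [← IsIso.hom_inv_id (0 : cokernel φ ⟶ cokernel φ), zero_comp]

theorem mem_genLocus_exists {n : ℕ} {T : Scheme.{u}} (x : KRR.PY n T) : ∃ j : Fin (n + 1),
    x ∈ CMReg7.toZ n T ⁻¹ᵁ Proj.basicOpen (CohB1.polyGrading n (ULift.{u} ℤ))
      (ProjGen7.coord' n (ULift.{u} ℤ) (ULift.up j)) := by
  obtain ⟨j, hj⟩ := TopologicalSpace.Opens.mem_iSup.1
    ((ProjGen7.iSup_coord' n (ULift.{u} ℤ)).ge (Set.mem_univ ((CMReg7.toZ n T) x)))
  exact ⟨j.down, hj⟩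

variable (n : ℕ) (T : Scheme.{u})

/-- The tautological quotient on `P^n_T`. -/
theorem exists_taut : ∃ q : (Scheme.Modules.pullback (KRR.pr n T)).obj (FlatMod.freeMod T (n + 1)) ⟶
    Twist.twistOver n T 1, Epi q := by
  choose σ hσ using fun j => CMReg7.exists_coord_section (n := n) (T := T) j
  let φ : FlatMod.freeMod (KRR.PY n T) (n + 1) ⟶ Twist.twistOver n T 1 := Sigma.desc σ
  haveI : Epi φ := epi_of_genLocus φ (fun j => Sigma.ι (fun _ : Fin (n + 1) => Coh.structureModule (KRR.PY n T)) j)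
    fun x => by
      obtain ⟨j, hj⟩ := mem_genLocus_exists x
      exact ⟨j, by rw [Sigma.ι_desc, hσ j]; exact hj⟩
  exact ⟨(KFlatLib.pullFreeIso (KRR.pr n T) (n + 1)).hom ≫ φ, inferInstance⟩

/-- `P^n_T` satisfies the axioms. -/
theorem bd_pr [CompactSpace T] : ∃ q, Bd (KRR.pr n T) n (fun d => Twist.twistOver n T d)
    (FlatMod.freeMod T (n + 1)) q := by
  obtain ⟨q, hq⟩ := exists_taut n T
  refine ⟨q, ⟨fun a => RegSheaf7.isInvertible_twistOver a, RegSheaf7.cl_twistOver_add,
    SlopeBound.isFinLocFreeOfRank_freeMod _, hq,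
    fun G hG d hd k => CMReg7.isZero_RpushAb_twF_pullback n T d hd G (QCoh.isQCoh_of_isFinLocFree hG) k,
    fun M hM k hk => CMReg7.isZero_RpushAb_above n T hM k hk,
    fun G hG d hd hd' => (van_zero_iff _ _).2 (isZero_push_twF_pullback d hd hd' hG),
    fun G hG => isIso_unit hG,
    fun F hF hreg => CMReg7.epi_counit F (QCoh.isQCoh_of_isFinLocFree hF) hreg,
    fun F hF hreg => CMReg7.isFinLocFree_push_pr hF fun i hi => CMReg7.higher_zero F hreg i hi,
    fun F hF => ?_⟩⟩
  obtain ⟨m₀, hm₀⟩ := exists_vanishing_pr n T F hF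
  refine ⟨m₀ + n, fun m hm i hi => ?_⟩
  obtain ⟨k, rfl⟩ := Nat.exists_eq_add_of_le' hi
  by_cases hk : k < n
  · refine (RegSheaf7.isZero_twF_congr (c := m - ((k + 1 : ℕ) : ℤ)) (by ring) (k + 1) F).2 ?_
    exact hm₀ _ (by push_cast; omega) k
  · exact CMReg7.isZero_RpushAb_above n T (QCoh.isQCoh_of_isFinLocFree
      (KFlatLib.isFinLocFree_tensor (H23.PullPush.isFinLocFree_of_isInvertible (RegSheaf7.isInvertible_twistOver _))
        (KFlatLib.isFinLocFree_tensor (H23.PullPush.isFinLocFree_of_isInvertible (RegSheaf7.isInvertible_twistOver _)) hF)))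
      k (by omega)

end Groth.Agent.KPE7
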