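import Groth.Agent.KPE7.Split
import Groth.Prelude.Def_KDet

/-!
# The push-forward along a projective bundle, on models of `K₀`
-/

set_option autoImplicit false
set_option linter.style.haveILetI false
set_option linter.unusedSectionVars false
set_option maxHeartbeats 400000
set_option backward.isDefEq.respectTransparency false
universe u v w
open CategoryTheory CategoryTheory.Limits AlgebraicGeometry
attribute [local instance] HasDerivedCategory.standard

noncomputable section

namespace Groth.Agent.KPE7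

open Groth.Agent
open scoped Groth.Agent.H23.PicMul
open Groth.Agent.ExtPow7.Lam (c)
attribute [local instance] ExtPow7.Lam.commRing ExtPow7.Lam.lambdaOps

variable {X : Scheme.{u}} {K : Type v} [CommRing K] [LambdaRing.LambdaOps K] {P : LambdaRing.PosStructure K}
  {φ : SGA6.Kvb X →+ K}

/-- A model is a ring map. -/
def modelHom (hK : KRR.IsModel X K P φ) : SGA6.Kvb X →+* K :=
  { φ with
    map_one' := hK.map_one
    map_mul' := fun x y => by
      refine DFunLike.congr_fun (DFunLike.congr_fun (KZ.K0sub_hom_ext (KRR.vbP X)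
        (f := (AddMonoidHom.compHom φ).comp AddMonoidHom.mul)
        (g := (AddMonoidHom.compHom.flip φ).comp ((AddMonoidHom.mul (R := K)).comp φ)) fun A hA =>
        KZ.K0sub_hom_ext (KRR.vbP X) fun C hC => ?_) x) y
      show φ (c A * c C) = φ (KRR.cl X A) * φ (KRR.cl X C)
      rw [ExtPow7.Lam.mul_eq hA hC]
      exact (hK.map_mul A C hA hC).symm }

theorem modelHom_apply (hK : KRR.IsModel X K P φ) (x : SGA6.Kvb X) : modelHom hK x = φ x := rfl

theorem modelHom_lam (hK : KRR.IsModel X K P φ) (i : ℕ) (x : SGA6.Kvb X) :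
    modelHom hK (LambdaRing.LambdaOps.lam i x) = LambdaRing.LambdaOps.lam i (modelHom hK x) := by
  have hser : ∀ (i : ℕ) (M L : X.Modules), FlatMod.IsFinLocFree M → FlatMod.IsFinLocFree L →
      ExtPow.IsExtPow i M L → modelHom hK (c L) = LambdaRing.LambdaOps.lam i (modelHom hK (c M)) :=
    fun i M L hM hLf hL => (hK.map_lam i M L hM hLf hL).symm
  let G : AddSubgroup (SGA6.Kvb X) :=
    { carrier := {p | PowerSeries.map (modelHom hK) (LambdaRing.lamSeries p) = LambdaRing.lamSeries (modelHom hK p)}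
      zero_mem' := by simp
      add_mem' := fun {a b} ha hb => by
        simp only [Set.mem_ofPred_eq] at ha hb ⊢
        rw [Lambda.lamSeries_add, map_mul, map_add, Lambda.lamSeries_add, ha, hb]
      neg_mem' := fun {a} ha => by
        simp only [Set.mem_ofPred_eq] at ha ⊢
        have h := congrArg (PowerSeries.map (modelHom hK)) (Lambda.lamSeries_neg_mul_self a)
        rw [map_mul, map_one, ha] at h
        rw [map_neg]
        exact left_inv_eq_right_inv h ((mul_comm _ _).trans (Lambda.lamSeries_neg_mul_self _)) }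
  have hG : (QuotientAddGroup.mk' G) = 0 := KZ.K0sub_hom_ext (KRR.vbP X) fun M hM => by
    refine (QuotientAddGroup.eq_zero_iff _).2 ?_
    show PowerSeries.map (modelHom hK) (LambdaRing.lamSeries (c M)) = LambdaRing.lamSeries (modelHom hK (c M))
    ext j
    obtain ⟨L, hL, hLf⟩ := ExtPow7.exists_isExtPow hM j
    rw [PowerSeries.coeff_map]
    simp only [LambdaRing.lamSeries, PowerSeries.coeff_mk]
    rw [show LambdaRing.LambdaOps.lam j (c M) = c L from ExtPow7.Lam.lam_c hM hL]
    exact hser j M L hM hLf hL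
  have hx : x ∈ G := (QuotientAddGroup.eq_zero_iff x).1 (DFunLike.congr_fun hG x)
  have := congrArg (PowerSeries.coeff i) hx
  simpa [LambdaRing.lamSeries, PowerSeries.coeff_map] using this

section Push

variable {T P' : Scheme.{u}} {π : P' ⟶ T} {n : ℕ} {O : ℤ → P'.Modules} {E : T.Modules}
  {q : (Scheme.Modules.pullback π).obj E ⟶ O 1} [HasInjectiveResolutions P'.Modules]
  {KP KT : Type w} [CommRing KP] [CommRing KT] {φP : SGA6.Kvb P' →+ KP} {φT : SGA6.Kvb T →+ KT}
  {g : KP →+ KT}

theorem isZero_Rpush_of_van (k : ℕ) {M : P'.Modules} (h : Van π (k + 1) M) :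
    IsZero ((Coh.Rpush π (k + 1)).obj M) := by
  obtain ⟨e⟩ := QCoh.nonempty_RpushAb_iso π M k
  obtain ⟨e'⟩ := QCoh.nonempty_Rpush_iso π M k
  haveI : (QCoh.toAbFunctor T).Faithful := inferInstanceAs (SheafOfModules.toSheaf T.ringCatSheaf).Faithful
  have h0 : IsZero ((QCoh.toAbFunctor T).obj ((Coh.Rpush π (k + 1)).obj M)) :=
    h.of_iso ((QCoh.toAbFunctor T).mapIso e' ≪≫ e.symm)
  rw [IsZero.iff_id_eq_zero] at h0 ⊢
  exact (QCoh.toAbFunctor T).map_injective (by rw [CategoryTheory.Functor.map_id, h0, Functor.map_zero])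

/-- The push-forward of `π^*x ⊗ O(b)` for `b ≥ -n`. -/
theorem Bd.pushF_eq_A (B : Bd π n O E q) (hg : KDet.IsPushF π (Coh.structureModule P') φP φT g)
    {b : ℤ} (hb : -(n : ℤ) ≤ b) (x : SGA6.Kvb T) : g (φP (pullK π x * c (O b))) = φT (B.A b x) := by
  refine DFunLike.congr_fun (KZ.K0sub_hom_ext (KRR.vbP T)
    (f := g.comp (φP.comp ((AddMonoidHom.mulRight (c (O b))).comp (pullK π).toAddMonoidHom)))
    (g := φT.comp (B.A b)) fun N hN => ?_) x
  show g (φP (pullK π (c N) * c (O b))) = φT (B.A b (c N))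
  have hPN := KFlatLib.isFinLocFree_pullback π hN
  let W := tw O b ((Scheme.Modules.pullback π).obj N)
  have hW : FlatMod.IsFinLocFree W := B.flf_tw hPN b
  obtain ⟨e⟩ : Nonempty (((DCoh.tensorBi (X := P')).obj (Coh.structureModule P')).obj W ≅ W) :=
    H23.PicMul.cl_eq_iff.1 (by
      show PicF.cl (CohB1.tensorMod _ _) = _
      rw [H23.PicMul.cl_tensor, ← H23.PicMul.one_def, one_mul])
  have hflf : FlatMod.IsFinLocFree ((Coh.push π).obj (((DCoh.tensorBi (X := P')).obj (Coh.structureModule P')).obj W)) :=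
    flf_iso ((Scheme.Modules.pushforward π).mapIso e).symm (B.flf_push_pullback hN hb)
  have h := hg W hW (fun p hp => by
    obtain ⟨k, rfl⟩ := Nat.exists_eq_add_of_le' hp
    exact isZero_Rpush_of_van k (van_iso π e.symm (B.van N hN b hb k))) hflf
  rw [show pullK π (c N) * c (O b) = c W by rw [pullK_c π hN, mul_comm, B.c_tw hPN], B.A_c hb hN]
  exact h.trans (congrArg φT (ExtPow7.Lam.c_iso ((Scheme.Modules.pushforward π).mapIso e) hflf))

theorem Bd.pushF_zero (B : Bd π n O E q) (hg : KDet.IsPushF π (Coh.structureModule P') φP φT g)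
    (x : SGA6.Kvb T) : g (φP (pullK π x)) = φT x := by
  have h := B.pushF_eq_A hg (b := 0) (by omega) x
  rwa [B.c_zero, mul_one, B.A_zero] at h

theorem Bd.pushF_low (B : Bd π n O E q) (hg : KDet.IsPushF π (Coh.structureModule P') φP φT g)
    {b : ℤ} (hb : -(n : ℤ) ≤ b) (hb' : b < 0) (x : SGA6.Kvb T) : g (φP (pullK π x * c (O b))) = 0 := by
  rw [B.pushF_eq_A hg hb x, B.A_low hb hb', map_zero]

/-- Linearity over the base. -/
theorem Bd.pushF_linear (B : Bd π n O E q) (hg : KDet.IsPushF π (Coh.structureModule P') φP φT g)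
    (hmul : ∀ x y, φT (x * y) = φT x * φT y) (x : SGA6.Kvb T) (z : SGA6.Kvb P') :
    g (φP (pullK π x * z)) = φT x * g (φP z) := by
  obtain ⟨y, rfl⟩ := (B.bijective_window (-(n : ℤ))).2 z
  show g (φP (pullK π x * ∑ i : Fin (n + 1), _)) = φT x * g (φP (∑ i : Fin (n + 1), _))
  simp only [Finset.mul_sum, map_sum]
  refine Finset.sum_congr rfl fun i _ => ?_
  rw [← mul_assoc, ← map_mul]
  by_cases hi : -(n : ℤ) + (i : ℕ) < 0
  · rw [B.pushF_low hg (by omega) hi, B.pushF_low hg (by omega) hi, mul_zero]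
  · have : -(n : ℤ) + (i : ℕ) = 0 := by omega
    rw [this, B.c_zero, mul_one, mul_one, B.pushF_zero hg, B.pushF_zero hg, hmul]

end Push

end Groth.Agent.KPE7
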