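import Groth.Agent.S3572
import Groth.Agent.S3573
import Groth.Agent.KPE7.PnData
import Groth.Agent.ExtPow7.PullMat
import Groth.Agent.ExistEasy.PP.PullSec
import Groth.Agent.AmpleVan.IdealCrit
import Groth.Agent.CohPullLib.SectPull

/-!
# The universal property of `P^n_S` through sections, and projective bundles over a frame
-/

set_option autoImplicit false
set_option linter.style.haveILetI false
set_option linter.unusedSectionVars false
set_option maxHeartbeats 400000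
set_option backward.isDefEq.respectTransparency false
set_option backward.isDefEq.respectTransparency.types false
universe u
open CategoryTheory CategoryTheory.Limits AlgebraicGeometry TopologicalSpace Opposite

noncomputable section

namespace Groth.Agent.KPE7

open Groth.Agent Groth.Agent.AModX

variable {X Y Z : Scheme.{u}}

/-- The pulled back section, over the whole source. -/
abbrev ps (f : X ⟶ Y) (M : Y.Modules) {V : Y.Opens} (h : (⊤ : X.Opens) ≤ f ⁻¹ᵁ V) (x : Γ(M, V)) :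
    Γ((Scheme.Modules.pullback f).obj M, ⊤) :=
  QCoh.pullSec f M h x

theorem ps_eq_pullSec (f : X ⟶ Y) (M : Y.Modules) (x : Γ(M, ⊤)) :
    ps f M (le_refl ⊤) x = ProjUP.pullSec f M x :=
  QCoh.map_id' (homOfLE (le_refl (⊤ : X.Opens))) _

theorem ps_comp (f : X ⟶ Y) (g : Y ⟶ Z) (G : Z.Modules) {U : Y.Opens} {V : Z.Opens}
    (h₁ : U ≤ g ⁻¹ᵁ V) (h₂ : (⊤ : X.Opens) ≤ f ⁻¹ᵁ U) (h₃ : (⊤ : X.Opens) ≤ (f ≫ g) ⁻¹ᵁ V) (x : Γ(G, V)) :
    ((Scheme.Modules.pullbackComp f g).hom.app G).app ⊤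
        (ps f ((Scheme.Modules.pullback g).obj G) h₂ (QCoh.pullSec g G h₁ x)) = ps (f ≫ g) G h₃ x :=
  ExistEasy.pullSec_comp f g G h₁ h₂ x

theorem ps_comp_inv (f : X ⟶ Y) (g : Y ⟶ Z) (G : Z.Modules) {U : Y.Opens} {V : Z.Opens}
    (h₁ : U ≤ g ⁻¹ᵁ V) (h₂ : (⊤ : X.Opens) ≤ f ⁻¹ᵁ U) (h₃ : (⊤ : X.Opens) ≤ (f ≫ g) ⁻¹ᵁ V) (x : Γ(G, V)) :
    ((Scheme.Modules.pullbackComp f g).inv.app G).app ⊤ (ps (f ≫ g) G h₃ x) =
      ps f ((Scheme.Modules.pullback g).obj G) h₂ (QCoh.pullSec g G h₁ x) := by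
  rw [← ps_comp f g G h₁ h₂ h₃ x]
  exact congrArg (fun φ => Scheme.Modules.Hom.app φ ⊤ (ps f ((Scheme.Modules.pullback g).obj G) h₂
    (QCoh.pullSec g G h₁ x))) ((Scheme.Modules.pullbackComp f g).hom_inv_id_app G)

theorem ps_congr {f g : X ⟶ Y} (e : f = g) (G : Y.Modules) {V : Y.Opens} (h : (⊤ : X.Opens) ≤ f ⁻¹ᵁ V)
    (h' : (⊤ : X.Opens) ≤ g ⁻¹ᵁ V) (x : Γ(G, V)) :
    ((Scheme.Modules.pullbackCongr e).hom.app G).app ⊤ (ps f G h x) = ps g G h' x :=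
  ExistEasy.pullSec_congr e G h x

theorem ps_congr_inv {f g : X ⟶ Y} (e : f = g) (G : Y.Modules) {V : Y.Opens} (h : (⊤ : X.Opens) ≤ f ⁻¹ᵁ V)
    (h' : (⊤ : X.Opens) ≤ g ⁻¹ᵁ V) (x : Γ(G, V)) :
    ((Scheme.Modules.pullbackCongr e).inv.app G).app ⊤ (ps g G h' x) = ps f G h x := by
  subst e
  rfl

theorem ps_natural (f : X ⟶ Y) {M N : Y.Modules} (k : M ⟶ N) {V : Y.Opens} (h : (⊤ : X.Opens) ≤ f ⁻¹ᵁ V)
    (x : Γ(M, V)) : ((Scheme.Modules.pullback f).map k).app ⊤ (ps f M h x) = ps f N h (k.app V x) :=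
  ExistEasy.pullSec_natural f k h x

theorem ps_id_inv (M : X.Modules) (h : (⊤ : X.Opens) ≤ (𝟙 X : X ⟶ X) ⁻¹ᵁ ⊤) (x : Γ(M, ⊤)) :
    ((Scheme.Modules.pullbackId X).inv.app M).app ⊤ x = ps (𝟙 X) M h x := by
  have e : ((Scheme.Modules.pullbackId X).hom.app M).app ⊤ (ps (𝟙 X) M h x) = x :=
    (CohPullLib.pullbackId_pullSec M h x).trans (QCoh.map_id' _ _)
  conv_lhs => rw [← e]
  exact congrArg (fun φ => Scheme.Modules.Hom.app φ ⊤ (ps (𝟙 X) M h x))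
    ((Scheme.Modules.pullbackId X).hom_inv_id_app M)

/-! ### Frames and generators -/

theorem generatedBy_frame {L : X.Modules} {J : Type*} (s : J → Γ(L, ⊤))
    (h : ∀ x : X, ∃ j U, x ∈ U ∧ InvX.IsFrame (res L (le_top : U ≤ ⊤) (s j))) : ProjUP.GeneratedBy L s := by
  intro x
  obtain ⟨j, U, hx, hU⟩ := h x
  refine eq_top_iff.2 fun z _ => ?_
  obtain ⟨V, hxV, v, rfl⟩ := TopCat.Presheaf.exists_germ_eq L.presheaf z
  obtain ⟨g, hg⟩ := hU.exists_coord (inf_le_right : V ⊓ U ≤ U) (res L (inf_le_left : V ⊓ U ≤ V) v)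
  rw [← L.presheaf.germ_res_apply (homOfLE (inf_le_left : V ⊓ U ≤ V)) x ⟨hxV, hx⟩ v]
  rw [show L.presheaf.map (homOfLE (inf_le_left : V ⊓ U ≤ V)).op v = res L (inf_le_left : V ⊓ U ≤ V) v from rfl,
    hg, res_res, QCoh.germ_smul' L (show x ∈ V ⊓ U from ⟨hxV, hx⟩)]
  refine Submodule.smul_mem _ _ (Submodule.subset_span ⟨j, ?_⟩)
  exact (L.presheaf.germ_res_apply (homOfLE (le_top : V ⊓ U ≤ ⊤)) x ⟨hxV, hx⟩ (s j)).symm

/-- Maps out of a module generated by global sections are determined by their values. -/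
theorem hom_ext_generated {L N : X.Modules} {J : Type*} (hL : PicF.IsInvertible L) (s : J → Γ(L, ⊤))
    (hs : ProjUP.GeneratedBy L s) {a b : L ⟶ N} (h : ∀ j, a.app ⊤ (s j) = b.app ⊤ (s j)) : a = b := by
  choose j U hx hU using fun x : X => InvX.exists_frame_of_generated hL s x (hs x)
  exact InvX.hom_ext_of_frames U (fun x => ⟨x, hx x⟩) (fun x => res L (le_top : U x ≤ ⊤) (s (j x))) hU
    fun x => by rw [app_res, app_res, h]

theorem epi_of_generated {M L : X.Modules} {J : Type*} (hL : PicF.IsInvertible L) (s : J → Γ(L, ⊤))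
    (hs : ProjUP.GeneratedBy L s) (φ : M ⟶ L) (h : ∀ j, ∃ m, φ.app ⊤ m = s j) : Epi φ := by
  refine ⟨fun {N} a b hab => hom_ext_generated hL s hs fun j => ?_⟩
  obtain ⟨m, hm⟩ := h j
  rw [← hm]
  exact congrArg (fun ψ => Scheme.Modules.Hom.app ψ ⊤ m) hab

variable {n : ℕ}

theorem hom_ext_frame {M N : X.Modules} {σ : Fin n → Γ(M, ⊤)} (hσ : H23.Frame.IsFrame M σ) {a b : M ⟶ N}
    (h : ∀ i, a.app ⊤ (σ i) = b.app ⊤ (σ i)) : a = b := by
  refine Scheme.Modules.hom_ext _ _ fun W => AddCommGrpCat.hom_ext (AddMonoidHom.ext fun x => ?_)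
  obtain ⟨c, rfl⟩ := (hσ W le_top).2 x
  show a.app W _ = b.app W _
  rw [H23.Frame.comb, map_sum, map_sum]
  refine Finset.sum_congr rfl fun i _ => ?_
  rw [Scheme.Modules.Hom.app_smul, Scheme.Modules.Hom.app_smul]
  show c i • a.app W (res M le_top (σ i)) = c i • b.app W (res M le_top (σ i))
  rw [app_res, app_res, h]

theorem exists_hom_frame {M N : X.Modules} {σ : Fin n → Γ(M, ⊤)} (hσ : H23.Frame.IsFrame M σ)
    (v : Fin n → Γ(N, ⊤)) : ∃ φ : M ⟶ N, ∀ i, φ.app ⊤ (σ i) = v i := by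
  let f : FlatMod.freeMod X n ⟶ M := Sigma.desc fun i => InvX.ofSect (σ i)
  have hf : ∀ i, f.app ⊤ ((H23.Frame.incl X n i).app ⊤ (H23.Frame.one ⊤)) = σ i := fun i => by
    show (H23.Frame.incl X n i ≫ f).app ⊤ (H23.Frame.one ⊤) = σ i
    rw [H23.Frame.incl, Sigma.ι_desc]
    exact InvX.one_ofSect (σ i)
  haveI : IsIso f := by
    refine Scheme.Modules.Hom.isIso_iff_isIso_app.mpr fun W => (ConcreteCategory.isIso_iff_bijective _).2 ?_
    have hb := (H23.Frame.incl_isFrame (X := X) (n := n)) W le_top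
    have key : (fun x => f.app W x) ∘ H23.Frame.comb (FlatMod.freeMod X n)
        (fun i => (H23.Frame.incl X n i).app ⊤ (H23.Frame.one ⊤)) W le_top = H23.Frame.comb M σ W le_top := by
      funext c
      simp only [Function.comp, H23.Frame.comb, map_sum]
      refine Finset.sum_congr rfl fun i _ => ?_
      rw [Scheme.Modules.Hom.app_smul]
      show c i • f.app W (res _ le_top _) = c i • res M le_top (σ i)
      rw [app_res, hf]
    exact (Function.Bijective.of_comp_iff _ hb).mp (key ▸ hσ W le_top)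
  refine ⟨inv f ≫ Sigma.desc fun i => InvX.ofSect (v i), fun i => ?_⟩
  have e : (inv f).app ⊤ (σ i) = (H23.Frame.incl X n i).app ⊤ (H23.Frame.one ⊤) := by
    rw [← hf i]
    exact congrArg (fun φ => Scheme.Modules.Hom.app φ ⊤ _) (IsIso.hom_inv_id f)
  show (Sigma.desc fun i => InvX.ofSect (v i)).app ⊤ ((inv f).app ⊤ (σ i)) = v i
  rw [e]
  show (H23.Frame.incl X n i ≫ _).app ⊤ (H23.Frame.one ⊤) = v i
  rw [H23.Frame.incl, Sigma.ι_desc]
  exact InvX.one_ofSect (v i)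

theorem generatedBy_of_frame_epi {M L : X.Modules} {σ : Fin n → Γ(M, ⊤)} (hσ : H23.Frame.IsFrame M σ)
    (s : M ⟶ L) [Epi s] : ProjUP.GeneratedBy L fun i => s.app ⊤ (σ i) := by
  let f : FlatMod.freeMod X n ⟶ M := Sigma.desc fun i => InvX.ofSect (σ i)
  haveI : Epi f := ⟨fun a b hab => hom_ext_frame hσ fun i => by
    rw [← InvX.one_ofSect (σ i)]
    exact congrArg (fun φ => Scheme.Modules.Hom.app φ ⊤ (H23.Frame.one ⊤))
      ((congrArg (H23.Frame.incl X n i ≫ ·) hab) |> fun h => by simpa [f, H23.Frame.incl] using h)⟩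
  have h := AmpleVan.IdealCrit.generatedBy_of_epi (L := L) (f ≫ s)
  intro x
  rw [← h x]
  congr 1
  refine congrArg Set.range (funext fun i => ?_)
  congr 1
  show s.app ⊤ (σ i) = InvX.one (Sigma.ι (fun _ : Fin n => Coh.structureModule X) i ≫ f ≫ s)
  rw [← InvX.one_ofSect (σ i), Sigma.ι_desc_assoc]
  rfl

/-- The inverse image of a frame over an open. -/
theorem isFrame_ps (f : X ⟶ Y) {M : Y.Modules} (hM : FlatMod.IsFinLocFreeOfRank n M) {U : Y.Opens}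
    {σ : Fin n → Γ(M, U)} (hσ : H23.Frame.IsFrame M σ) (h : (⊤ : X.Opens) ≤ f ⁻¹ᵁ U) :
    H23.Frame.IsFrame ((Scheme.Modules.pullback f).obj M) fun i => ps f M h (σ i) := by
  classical
  choose U₀ hU₀ e₀ using hM
  choose s₀ hs₀ using fun y => H23.Frame.exists_frame (e₀ y).some
  rcases isEmpty_or_nonempty X with hX | ⟨⟨x⟩⟩
  · intro W hW
    haveI : Subsingleton Γ(X, W) := CommRingCat.subsingleton_of_isTerminal
      (TopCat.Sheaf.isTerminalOfEqEmpty X.sheaf (Opens.ext (Set.eq_empty_of_isEmpty _)))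
    haveI : Subsingleton Γ((Scheme.Modules.pullback f).obj M, W) := Module.subsingleton Γ(X, W) _
    exact ⟨fun a b _ => Subsingleton.elim a b, fun z => ⟨0, Subsingleton.elim _ _⟩⟩
  let F : Y → {p : Σ V : Y.Opens, (Fin n → Γ(M, V)) // H23.Frame.IsFrame M p.2} := fun y =>
    if y ∈ U then ⟨⟨U, σ⟩, hσ⟩ else ⟨⟨U₀ y, s₀ y⟩, hs₀ y⟩
  have hmem : ∀ y, y ∈ (F y).1.1 := fun y => by
    by_cases hy : y ∈ U
    · simp only [F, if_pos hy]; exact hy
    · simp only [F, if_neg hy]; exact hU₀ y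
  have h1 := ExtPow7.isFrame_pullElt (n := fun _ => n) (U := fun y => (F y).1.1) (s := fun y => (F y).1.2)
    f (fun y => (F y).2) hmem x
  have key : ∀ (p : Σ V : Y.Opens, (Fin n → Γ(M, V))), p = ⟨U, σ⟩ →
      H23.Frame.IsFrame ((Scheme.Modules.pullback f).obj M) (U := f ⁻¹ᵁ p.1) (fun i => InvX.pullElt f (p.2 i)) →
      H23.Frame.IsFrame ((Scheme.Modules.pullback f).obj M) fun i => ps f M h (σ i) := by
    rintro p rfl h2
    exact h2.res h
  exact key _ (by simp only [F, if_pos (show f x ∈ U from h trivial)]) h1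

/-! ### The universal property of `P^n_S` -/

variable (n)

/-- The coordinates on `P^n_S`. -/
def crdO (S : Scheme.{u}) (i : Fin (n + 1)) : Γ(Twist.twistOver n S 1, ⊤) :=
  ps (CMReg7.toZ n S) (Twist.twistProjSpace n (ULift.{u} ℤ) 1) (le_refl ⊤) (ProjUP.coord n (ULift.{u} ℤ) i)

theorem generatedBy_crdO (S : Scheme.{u}) : ProjUP.GeneratedBy (Twist.twistOver n S 1) (crdO n S) := by
  refine generatedBy_frame _ fun x => ?_
  obtain ⟨j, hj⟩ := mem_genLocus_exists x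
  refine ⟨j, CMReg7.toZ n S ⁻¹ᵁ Proj.basicOpen (CohB1.polyGrading n (ULift.{u} ℤ)) (MvPolynomial.X j), hj, ?_⟩
  rw [crdO, ps_eq_pullSec]
  exact ProjUPX.isFrame_pullG (CMReg7.toZ n S) (ProjPt.X_mem j)

theorem exists_toPn {S : Scheme.{u}} (g : X ⟶ S) {L : X.Modules} (hL : PicF.IsInvertible L)
    (s : Fin (n + 1) → Γ(L, ⊤)) (hs : ProjUP.GeneratedBy L s) :
    ∃ (h : X ⟶ KRR.PY n S) (_ : h ≫ KRR.pr n S = g) (e : (Scheme.Modules.pullback h).obj (Twist.twistOver n S 1) ≅ L),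
      ∀ i, e.hom.app ⊤ (ps h _ (le_refl ⊤) (crdO n S i)) = s i := by
  let R := ULift.{u} ℤ
  obtain ⟨r, hr, τ, hτ⟩ := Groth.Agent.S3572.result (R := R) n (specULiftZIsTerminal.from X) L hL s hs
  let h : X ⟶ KRR.PY n S := pullback.lift r g (specULiftZIsTerminal.hom_ext _ _)
  have h1 : h ≫ CMReg7.toZ n S = r := pullback.lift_fst _ _ _
  refine ⟨h, pullback.lift_snd _ _ _, (Scheme.Modules.pullbackComp h (CMReg7.toZ n S)).app _ ≪≫
    (Scheme.Modules.pullbackCongr h1).app _ ≪≫ τ, fun i => ?_⟩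
  show τ.hom.app ⊤ (((Scheme.Modules.pullbackCongr h1).hom.app _).app ⊤
    (((Scheme.Modules.pullbackComp h (CMReg7.toZ n S)).hom.app _).app ⊤ (ps h _ (le_refl ⊤) (crdO n S i)))) = s i
  rw [crdO, ps_comp h (CMReg7.toZ n S) _ le_rfl le_rfl le_rfl, ps_congr h1 _ le_rfl le_rfl, ps_eq_pullSec]
  exact hτ i

theorem eq_toPn {S : Scheme.{u}} (h h' : X ⟶ KRR.PY n S) (hg : h ≫ KRR.pr n S = h' ≫ KRR.pr n S)
    (e : (Scheme.Modules.pullback h).obj (Twist.twistOver n S 1) ≅ (Scheme.Modules.pullback h').obj (Twist.twistOver n S 1))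
    (he : ∀ i, e.hom.app ⊤ (ps h _ (le_refl ⊤) (crdO n S i)) = ps h' _ (le_refl ⊤) (crdO n S i)) : h = h' := by
  let R := ULift.{u} ℤ
  let z := CMReg7.toZ n S
  refine pullback.hom_ext ?_ hg
  refine Groth.Agent.S3573.result (R := R) n (h ≫ z) (h' ≫ z) (specULiftZIsTerminal.hom_ext _ _)
    ((Scheme.Modules.pullbackComp h z).symm.app _ ≪≫ e ≪≫ (Scheme.Modules.pullbackComp h' z).app _) fun i => ?_
  rw [← ps_eq_pullSec, ← ps_eq_pullSec]
  show ((Scheme.Modules.pullbackComp h' z).hom.app _).app ⊤ (e.hom.app ⊤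
    (((Scheme.Modules.pullbackComp h z).inv.app _).app ⊤ (ps (h ≫ z) _ le_rfl (ProjUP.coord n R i)))) = _
  rw [ps_comp_inv h z _ le_rfl le_rfl le_rfl]
  exact (congrArg (((Scheme.Modules.pullbackComp h' z).hom.app _).app ⊤) (he i)).trans
    (ps_comp h' z _ le_rfl le_rfl le_rfl _)

variable {n}

/-! ### Projective bundles over a frame -/

theorem quot_ps {P T : Scheme.{u}} {π : P ⟶ T} {E : T.Modules} {O1 : P.Modules}
    (q : (Scheme.Modules.pullback π).obj E ⟶ O1) {U : T.Opens} (σ : Γ(E, U))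
    (h : X ⟶ P) {g : X ⟶ T} (hg : h ≫ π = g) {L : X.Modules} (e : (Scheme.Modules.pullback h).obj O1 ⟶ L)
    (hU : (⊤ : X.Opens) ≤ g ⁻¹ᵁ U) (hV : (⊤ : X.Opens) ≤ h ⁻¹ᵁ (π ⁻¹ᵁ U)) :
    ((Scheme.Modules.pullbackCongr hg).inv.app E ≫ (Scheme.Modules.pullbackComp h π).inv.app E ≫
          (Scheme.Modules.pullback h).map q ≫ e).app ⊤ (ps g E hU σ) =
      e.app ⊤ (ps h O1 hV (q.app (π ⁻¹ᵁ U) (QCoh.pullSec π E le_rfl σ))) := by
  show e.app ⊤ (((Scheme.Modules.pullback h).map q).app ⊤ (((Scheme.Modules.pullbackComp h π).inv.app E).app ⊤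
    (((Scheme.Modules.pullbackCongr hg).inv.app E).app ⊤ (ps g E hU σ)))) = _
  rw [ps_congr_inv hg E (show (⊤ : X.Opens) ≤ (h ≫ π) ⁻¹ᵁ U by rw [hg]; exact hU) hU,
    ps_comp_inv h π E le_rfl hV, ps_natural]

variable {P T : Scheme.{u}} {π : P ⟶ T} {E : T.Modules} {O1 : P.Modules}
  {q : (Scheme.Modules.pullback π).obj E ⟶ O1}

/-- Morphisms to a projective bundle over a frame are determined by the coordinates. -/
theorem eq_of_coords (hE : FlatMod.IsFinLocFreeOfRank (n + 1) E) (hPB : KRR.IsProjBundle π E O1 q)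
    {U : T.Opens} (σ : Fin (n + 1) → Γ(E, U)) (hσ : H23.Frame.IsFrame E σ) (h h' : X ⟶ P)
    (hp : h ≫ π = h' ≫ π) (hh : (⊤ : X.Opens) ≤ h ⁻¹ᵁ (π ⁻¹ᵁ U)) (hh' : (⊤ : X.Opens) ≤ h' ⁻¹ᵁ (π ⁻¹ᵁ U))
    {L : X.Modules} (hL : PicF.IsInvertible L) (u : Fin (n + 1) → Γ(L, ⊤)) (hu : ProjUP.GeneratedBy L u)
    (e : (Scheme.Modules.pullback h).obj O1 ≅ L) (e' : (Scheme.Modules.pullback h').obj O1 ≅ L)
    (he : ∀ i, e.hom.app ⊤ (ps h O1 hh (q.app (π ⁻¹ᵁ U) (QCoh.pullSec π E le_rfl (σ i)))) = u i)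
    (he' : ∀ i, e'.hom.app ⊤ (ps h' O1 hh' (q.app (π ⁻¹ᵁ U) (QCoh.pullSec π E le_rfl (σ i)))) = u i) : h = h' := by
  obtain ⟨s, hs⟩ := exists_hom_frame (isFrame_ps (h ≫ π) hE hσ hh) u
  haveI : Epi s := epi_of_generated hL u hu s fun i => ⟨_, hs i⟩
  refine (hPB.univ X (h ≫ π) L (rank_one_inv hL) s inferInstance).unique ⟨rfl, e, ?_⟩ ⟨hp.symm, e', ?_⟩
  · exact hom_ext_frame (isFrame_ps (h ≫ π) hE hσ hh) fun i =>
      (quot_ps q (σ i) h rfl e.hom hh hh).trans ((he i).trans (hs i).symm)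
  · exact hom_ext_frame (isFrame_ps (h ≫ π) hE hσ hh) fun i =>
      (quot_ps q (σ i) h' hp.symm e'.hom hh hh').trans ((he' i).trans (hs i).symm)

/-- Over a frame, a projective bundle is `P^n`. -/
theorem exists_chart (hE : FlatMod.IsFinLocFreeOfRank (n + 1) E) (hPB : KRR.IsProjBundle π E O1 q)
    (U : T.Opens) (σ : Fin (n + 1) → Γ(E, U)) (hσ : H23.Frame.IsFrame E σ) :
    ∃ (Φ : KRR.PY n (U : Scheme.{u}) ≅ ((π ⁻¹ᵁ U : P.Opens) : Scheme.{u})),
      Φ.hom ≫ (π ∣_ U) = KRR.pr n (U : Scheme.{u}) ∧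
      Nonempty ((Scheme.Modules.pullback (Φ.hom ≫ (π ⁻¹ᵁ U).ι)).obj O1 ≅ Twist.twistOver n (U : Scheme.{u}) 1) := by
  let PU : Scheme.{u} := ((π ⁻¹ᵁ U : P.Opens) : Scheme.{u})
  let j : PU ⟶ P := (π ⁻¹ᵁ U).ι
  let p : KRR.PY n (U : Scheme.{u}) ⟶ (U : Scheme.{u}) := KRR.pr n (U : Scheme.{u})
  let t : Fin (n + 1) → Γ(O1, π ⁻¹ᵁ U) := fun i => q.app (π ⁻¹ᵁ U) (QCoh.pullSec π E le_rfl (σ i))
  have hO1 : PicF.IsInvertible O1 := fun x =>
    let ⟨V, hx, ⟨e⟩⟩ := hPB.invertible x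
    ⟨V, hx, ⟨e ≪≫ coproductUniqueIso fun _ : Fin 1 => Coh.structureModule (V : Scheme.{u})⟩⟩
  have hjV : (⊤ : PU.Opens) ≤ j ⁻¹ᵁ (π ⁻¹ᵁ U) := fun z _ => z.2
  have hjU : (⊤ : PU.Opens) ≤ (j ≫ π) ⁻¹ᵁ U := fun z _ => z.2
  let L := (Scheme.Modules.pullback j).obj O1
  have hL : PicF.IsInvertible L := PicClLib.isInvertible_pullback j hO1
  let u : Fin (n + 1) → Γ(L, ⊤) := fun i => ps j O1 hjV (t i)
  have hu : ProjUP.GeneratedBy L u := by
    haveI := hPB.epi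
    haveI : Epi ((Scheme.Modules.pullback j).map q) := Grass.epi_pullback_map j q
    let sU : (Scheme.Modules.pullback (j ≫ π)).obj E ⟶ L :=
      (Scheme.Modules.pullbackCongr (rfl : j ≫ π = j ≫ π)).inv.app E ≫ (Scheme.Modules.pullbackComp j π).inv.app E ≫
        (Scheme.Modules.pullback j).map q ≫ 𝟙 L
    have h := generatedBy_of_frame_epi (isFrame_ps (j ≫ π) hE hσ hjU) sU
    intro x
    rw [← h x]
    congr 1
    refine congrArg Set.range (funext fun i => congrArg _ ?_)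
    exact (quot_ps q (σ i) j rfl (𝟙 L) hjU hjV).symm
  -- to P^n
  obtain ⟨r, hr, a, ha⟩ := exists_toPn n (π ∣_ U) hL u hu
  -- from P^n
  let g : KRR.PY n (U : Scheme.{u}) ⟶ T := p ≫ U.ι
  have hgU : (⊤ : (KRR.PY n (U : Scheme.{u})).Opens) ≤ g ⁻¹ᵁ U := fun z _ => (p z).2
  have hc := generatedBy_crdO n (U : Scheme.{u})
  have htw : PicF.IsInvertible (Twist.twistOver n (U : Scheme.{u}) 1) := RegSheaf7.isInvertible_twistOver 1
  obtain ⟨s, hs⟩ := exists_hom_frame (isFrame_ps g hE hσ hgU) (crdO n (U : Scheme.{u}))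
  haveI : Epi s := epi_of_generated htw _ hc s fun i => ⟨_, hs i⟩
  obtain ⟨h, ⟨hg, b, hb⟩, -⟩ := hPB.univ _ g (Twist.twistOver n (U : Scheme.{u}) 1) (rank_one_inv htw) s inferInstance
  have hhV : (⊤ : (KRR.PY n (U : Scheme.{u})).Opens) ≤ h ⁻¹ᵁ (π ⁻¹ᵁ U) := fun z _ => by
    show (h ≫ π) z ∈ U
    rw [hg]; exact (p z).2
  have hb' : ∀ i, b.hom.app ⊤ (ps h O1 hhV (t i)) = crdO n (U : Scheme.{u}) i := fun i => by
    rw [← hs i, ← hb]
    exact (quot_ps q (σ i) h hg b.hom hgU hhV).symm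
  let h₀ : KRR.PY n (U : Scheme.{u}) ⟶ PU := IsOpenImmersion.lift j h (by
    rw [Scheme.Opens.range_ι]; rintro _ ⟨z, rfl⟩; exact hhV (trivial : z ∈ (⊤ : (KRR.PY n _).Opens)))
  have hh₀ : h₀ ≫ j = h := IsOpenImmersion.lift_fac _ _ _
  have hbase : h₀ ≫ (π ∣_ U) = p := by
    rw [← cancel_mono U.ι, Category.assoc, morphismRestrict_ι, ← Category.assoc, hh₀, hg]
  -- h₀ ≫ r = 𝟙
  have h1 : h₀ ≫ r = 𝟙 _ := by
    refine eq_toPn n _ _ (by rw [Category.assoc, hr, hbase, Category.id_comp])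
      ((Scheme.Modules.pullbackComp h₀ r).symm.app _ ≪≫ (Scheme.Modules.pullback h₀).mapIso a ≪≫
        (Scheme.Modules.pullbackComp h₀ j).app O1 ≪≫ (Scheme.Modules.pullbackCongr hh₀).app O1 ≪≫ b ≪≫
        ((Scheme.Modules.pullbackId _).app _).symm) fun i => ?_
    show ((Scheme.Modules.pullbackId _).inv.app _).app ⊤ (b.hom.app ⊤
      (((Scheme.Modules.pullbackCongr hh₀).hom.app O1).app ⊤ (((Scheme.Modules.pullbackComp h₀ j).hom.app O1).app ⊤
        (((Scheme.Modules.pullback h₀).map a.hom).app ⊤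
          (((Scheme.Modules.pullbackComp h₀ r).inv.app _).app ⊤ (ps (h₀ ≫ r) _ le_rfl (crdO n _ i))))))) = _
    rw [ps_comp_inv h₀ r _ (U := ⊤) le_rfl le_rfl le_rfl, ps_natural,
      show a.hom.app ⊤ (QCoh.pullSec r _ le_rfl (crdO n _ i)) = u i from ha i,
      ps_comp h₀ j O1 hjV le_rfl (show _ ≤ (h₀ ≫ j) ⁻¹ᵁ _ by rw [hh₀]; exact hhV),
      ps_congr hh₀ O1 _ hhV, hb']
    exact ps_id_inv _ _ _
  -- r ≫ h₀ = 𝟙
  have h2 : r ≫ h₀ = 𝟙 _ := by
    rw [← cancel_mono j, Category.assoc, hh₀, Category.id_comp]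
    have hV' : (⊤ : PU.Opens) ≤ (r ≫ h) ⁻¹ᵁ (π ⁻¹ᵁ U) := fun z _ => hhV (trivial : r z ∈ (⊤ : (KRR.PY n _).Opens))
    refine eq_of_coords hE hPB σ hσ (r ≫ h) j ?_ hV' hjV hL u hu
      ((Scheme.Modules.pullbackComp r h).symm.app O1 ≪≫ (Scheme.Modules.pullback r).mapIso b ≪≫ a) (Iso.refl _)
      (fun i => ?_) (fun i => rfl)
    · rw [Category.assoc, hg, ← Category.assoc, hr, morphismRestrict_ι]
    show a.hom.app ⊤ (((Scheme.Modules.pullback r).map b.hom).app ⊤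
      (((Scheme.Modules.pullbackComp r h).inv.app O1).app ⊤ (ps (r ≫ h) O1 hV' (t i)))) = u i
    rw [ps_comp_inv r h O1 hhV le_rfl hV', ps_natural,
      show b.hom.app ⊤ (QCoh.pullSec h O1 hhV (t i)) = crdO n _ i from hb' i, ha]
  exact ⟨⟨h₀, r, h1, h2⟩, hbase,
    ⟨(Scheme.Modules.pullbackCongr hh₀).app O1 ≪≫ b⟩⟩

end Groth.Agent.KPE7
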